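import Cfsg.Prelude.Def_Amalgam
import Cfsg.Prelude.Def_CaseTheorems
import Cfsg.Prelude.Def_LocalEven
import Cfsg.Agent.Lib.Amalgam.PCoreOf
import Cfsg.Agent.Lib.Coprime.Generation
import Cfsg.Agent.Lib.OddLocal.Stab
import Cfsg.Agent.Lib.PGroup.GInvariantCritical
import Cfsg.Agent.Lib.Transfer.Frobenius

/-!
Klinger–Mason: cores of element normalizers and the mutual pair lemma.
-/

set_option autoImplicit false
set_option linter.unusedSectionVars false
set_option linter.style.haveILetI false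

namespace CfsgLib.KlingerMason

open Subgroup
open scoped commutatorElement

variable {G : Type*} [Group G]

/-- Every `q`-local subgroup has characteristic `q`. -/
def LocChar (q : ℕ) (G : Type*) [Group G] : Prop :=
  ∀ T : Subgroup G, IsPGroup q T → T ≠ ⊥ →
    centralizer (Cfsg.pCore q ↥(normalizer (T : Set G)) : Set ↥(normalizer (T : Set G))) ≤
      Cfsg.pCore q ↥(normalizer (T : Set G))

/-- `O_q` of the normalizer of `⟨g⟩`. -/
def core (q : ℕ) (g : G) : Subgroup G := Cfsg.pCoreOf q (normalizer (zpowers g : Set G))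

variable {q : ℕ}

theorem mem_normalizer_zpowers_of_commute {x g : G} (h : Commute x g) :
    x ∈ normalizer (zpowers g : Set G) := by
  have key : ∀ k : ℤ, x * g ^ k * x⁻¹ = g ^ k := fun k => by
    rw [(h.zpow_right k).eq, mul_inv_cancel_right]
  rw [mem_normalizer_iff]
  intro u
  refine ⟨fun hu => ?_, fun hu => ?_⟩
  · obtain ⟨k, rfl⟩ := mem_zpowers_iff.1 hu
    rw [key]; exact zpow_mem (mem_zpowers g) k
  · obtain ⟨k, hk⟩ := mem_zpowers_iff.1 hu
    have h2 : u = g ^ k := by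
      have h3 := (key k).trans hk
      exact (mul_right_injective x (mul_left_injective x⁻¹ h3)).symm
    rw [h2]; exact zpow_mem (mem_zpowers g) k

theorem core_isPGroup [Finite G] [Fact q.Prime] (g : G) : IsPGroup q (core q g) :=
  CfsgLib.Amalgam.isPGroup_pCoreOf _

theorem core_le (g : G) : core q g ≤ normalizer (zpowers g : Set G) := CfsgLib.Amalgam.pCoreOf_le _

theorem mem_normalizer_core {x g : G} (h : Commute x g) : x ∈ normalizer (core q g : Set G) :=
  CfsgLib.Amalgam.le_normalizer_pCoreOf _ (mem_normalizer_zpowers_of_commute h)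

theorem core_conj (y g : G) : core q (y * g * y⁻¹) = (core q g).map (MulAut.conj y).toMonoidHom := by
  rw [core, core, ← CfsgLib.Amalgam.pCoreOf_map _ (MulEquiv.injective _), map_equiv_normalizer_eq,
    MonoidHom.map_zpowers]
  rfl

variable [Finite G] [Fact q.Prime]

theorem mem_pCoreOf_of_centralizing (hq : LocChar q G) {T : Subgroup G} (hT : IsPGroup q T) (hT1 : T ≠ ⊥)
    {x : G} (hxN : x ∈ normalizer (T : Set G))
    (hx : ∀ r ∈ Cfsg.pCoreOf q (normalizer (T : Set G)), x * r = r * x) :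
    x ∈ Cfsg.pCoreOf q (normalizer (T : Set G)) := by
  refine ⟨⟨x, hxN⟩, hq T hT hT1 (mem_centralizer_iff.2 fun r hr => Subtype.ext ?_), rfl⟩
  exact (hx (r : G) ⟨r, hr, rfl⟩).symm

theorem self_mem_core {g : G} (hg : orderOf g = q) : g ∈ core q g := by
  have hp : IsPGroup q (zpowers g) := IsPGroup.of_card (n := 1) (by rw [Nat.card_zpowers, hg, pow_one])
  exact CfsgLib.Amalgam.le_pCoreOf le_normalizer le_rfl hp (mem_zpowers g)

theorem mem_core_of_centralizing (hq : LocChar q G) {g x : G} (hg : orderOf g = q) (hxg : Commute x g)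
    (hx : ∀ r ∈ core q g, x * r = r * x) : x ∈ core q g :=
  mem_pCoreOf_of_centralizing hq (IsPGroup.of_card (n := 1) (by rw [Nat.card_zpowers, hg, pow_one]))
    (by
      rw [Ne, zpowers_eq_bot]
      rintro rfl
      rw [orderOf_one] at hg
      exact (Fact.out : q.Prime).one_lt.ne hg)
    (mem_normalizer_zpowers_of_commute hxg) hx

/-- A `q`-group normalizing a subgroup of order `q` centralizes it. -/
theorem core_commute {g : G} (hg : orderOf g = q) : ∀ r ∈ core q g, Commute r g := by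
  intro r hr
  have hq := (Fact.out : q.Prime)
  have hN := mem_normalizer_iff.1 (core_le g hr) g
  obtain ⟨k, hk⟩ := mem_zpowers_iff.1 (hN.1 (mem_zpowers g))
  obtain ⟨j, hj⟩ := core_isPGroup (q := q) g ⟨r, hr⟩
  have hj' : r ^ q ^ j = 1 := by simpa using congrArg Subtype.val hj
  have hiter : ∀ m : ℕ, r ^ m * g * (r ^ m)⁻¹ = g ^ (k ^ m) := by
    intro m
    induction m with
    | zero => simp
    | succ m ih =>
      rw [pow_succ', show r * r ^ m * g * (r * r ^ m)⁻¹ = r * (r ^ m * g * (r ^ m)⁻¹) * r⁻¹ by group, ih,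
        ← conj_zpow, ← hk, ← zpow_mul, pow_succ' k]
  have h1 := hiter (q ^ j)
  rw [hj', one_mul, inv_one, mul_one] at h1
  have h2 : g ^ (k ^ q ^ j - 1) = 1 := by rw [zpow_sub, zpow_one, ← h1, mul_inv_cancel]
  rw [← orderOf_dvd_iff_zpow_eq_one, hg] at h2
  have h3 : ((k : ℤ) : ZMod q) = 1 := by
    have h4 := (ZMod.intCast_zmod_eq_zero_iff_dvd _ _).2 h2
    push_cast at h4
    rw [ZMod.pow_card_pow, sub_eq_zero] at h4
    exact h4
  have h5 : g ^ (k - 1) = 1 := by
    rw [← orderOf_dvd_iff_zpow_eq_one, hg, ← ZMod.intCast_zmod_eq_zero_iff_dvd]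
    push_cast
    rw [h3, sub_self]
  have h6 : r * g * r⁻¹ = g := by
    rw [← hk]
    rw [zpow_sub, zpow_one, mul_inv_eq_one] at h5
    exact h5
  exact mul_inv_eq_iff_eq_mul.1 h6

variable {p : ℕ} [Fact p.Prime]

theorem coprime_two (hp2 : p ≠ 2) {P Q : Subgroup G} (hP : IsPGroup p P) (hQ : IsPGroup 2 Q) :
    (Nat.card P).Coprime (Nat.card Q) := by
  haveI : Fact (Nat.Prime 2) := ⟨Nat.prime_two⟩
  obtain ⟨i, hi⟩ := IsPGroup.iff_card.1 hP
  obtain ⟨j, hj⟩ := IsPGroup.iff_card.1 hQ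
  rw [hi, hj]
  exact (Nat.Coprime.pow _ _ ((Nat.coprime_primes (Fact.out : p.Prime) Nat.prime_two).2 hp2))

/-- Generation by centralizers of nontrivial elements of a noncyclic abelian group. -/
theorem le_of_centralizers {A X Y : Subgroup G} (hA : IsMulCommutative A)
    (hAX : A ≤ normalizer (X : Set G)) (hcop : (Nat.card A).Coprime (Nat.card X)) (hnc : ¬ IsCyclic A)
    (h : ∀ a ∈ A, a ≠ 1 → X ⊓ centralizer ({a} : Set G) ≤ Y) : X ≤ Y := by
  rw [← CfsgLib.Coprime.cocyclicJoin_eq hA hAX hcop]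
  refine iSup₂_le ?_
  rintro B ⟨hB, a, ha, hBa⟩
  have hB1 : B ≠ ⊥ := fun hb => by
    rw [hb, bot_sup_eq] at hBa
    refine hnc ⟨⟨a, ha⟩, fun y => ?_⟩
    obtain ⟨k, hk⟩ := mem_zpowers_iff.1 (hBa.ge y.2)
    exact mem_zpowers_iff.2 ⟨k, Subtype.ext (by simpa using hk)⟩
  obtain ⟨b, hb, hb1⟩ := (ne_bot_iff_exists_ne_one.1 hB1).elim fun b hb =>
    (⟨b, b.2, fun e => hb (Subtype.ext e)⟩ : ∃ b ∈ B, b ≠ (1 : G))
  refine le_trans (inf_le_inf_left _ ?_) (h b (hB hb) hb1)
  exact centralizer_le (Set.singleton_subset_iff.2 hb)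

theorem not_isCyclic_of_exp {A : Subgroup G} {m : ℕ} (hm : 0 < m) (hexp : ∀ a ∈ A, a ^ m = 1)
    (hcard : m < Nat.card A) : ¬ IsCyclic A := by
  intro h
  obtain ⟨a, ha⟩ := IsCyclic.exists_ofOrder_eq_natCard (α := A)
  have : orderOf a ≤ m := Nat.le_of_dvd hm
    (orderOf_dvd_of_pow_eq_one (Subtype.ext (by simpa using hexp a a.2)))
  omega

/-- The mutual pair lemma. -/
theorem no_mutual (hp2 : p ≠ 2) (hP : LocChar p G) {a t u : G} (ha : orderOf a = p) (ht : orderOf t = 2)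
    (hu : orderOf u = 2) (htu : t ≠ u) (hct : Commute t u) (hat : Commute a t) (hau : Commute a u)
    (h1 : u ∈ core 2 t) (h2 : t ∈ core 2 u) : False := by
  haveI : Fact (Nat.Prime 2) := ⟨Nat.prime_two⟩
  set R := core p a with hR
  have hdisj : ∀ v : G, ∀ z ∈ core 2 v, z ∈ R → z = 1 := by
    intro v z hz hzR
    obtain ⟨i, hi⟩ := core_isPGroup (q := p) a ⟨z, hzR⟩
    obtain ⟨j, hj⟩ := core_isPGroup (q := 2) v ⟨z, hz⟩
    have hi' : z ^ p ^ i = 1 := by simpa using congrArg Subtype.val hi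
    have hj' : z ^ 2 ^ j = 1 := by simpa using congrArg Subtype.val hj
    exact orderOf_eq_one_iff.1 (Nat.eq_one_of_dvd_coprimes
      (Nat.Coprime.pow _ _ ((Nat.coprime_primes (Fact.out : p.Prime) Nat.prime_two).2 hp2))
      (orderOf_dvd_of_pow_eq_one hi') (orderOf_dvd_of_pow_eq_one hj'))
  have key : ∀ v w : G, Commute a v → w ∈ core 2 v → Commute a w →
      ∀ r ∈ R, Commute r v → Commute r w := by
    intro v w _ hw haw r hr hrv
    have hwR : w ∈ normalizer (R : Set G) := mem_normalizer_core haw.symm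
    have hrv' : r ∈ normalizer (core 2 v : Set G) := mem_normalizer_core hrv
    have hA : r * w * r⁻¹ * w⁻¹ ∈ core 2 v :=
      mul_mem ((mem_normalizer_iff.1 hrv' w).1 hw) (inv_mem hw)
    have hB : r * w * r⁻¹ * w⁻¹ ∈ R := by
      have := mul_mem hr ((mem_normalizer_iff.1 hwR r⁻¹).1 (inv_mem hr))
      simpa [mul_assoc] using this
    have h0 := hdisj v _ hA hB
    rw [mul_inv_eq_one, mul_inv_eq_iff_eq_mul] at h0
    exact h0
  have ht2 : t * t = 1 := by rw [← sq, ← ht, pow_orderOf_eq_one]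
  have hu2 : u * u = 1 := by rw [← sq, ← hu, pow_orderOf_eq_one]
  set W := closure ({t, u} : Set G) with hW
  haveI hWc : IsMulCommutative W := isMulCommutative_closure (by
    rintro x (rfl | rfl) y (rfl | rfl) <;> first | rfl | exact hct | exact hct.symm)
  have hWe : ∀ w ∈ W, w = 1 ∨ w = t ∨ w = u ∨ w = t * u := by
    intro w hw
    induction hw using closure_induction with
    | mem x hx => rcases hx with rfl | rfl <;> simp
    | one => simp
    | mul x y _ _ hx hy =>
      have hut : u * t = t * u := hct.eq.symm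
      have h3 : t * (t * u) = u := by rw [← mul_assoc, ht2, one_mul]
      have h4 : u * (t * u) = t := by rw [← mul_assoc, hut, mul_assoc, hu2, mul_one]
      have h5 : t * u * t = u := by rw [mul_assoc, hut, h3]
      have h6 : t * u * u = t := by rw [mul_assoc, hu2, mul_one]
      have h7 : t * u * (t * u) = 1 := by rw [← mul_assoc, h5, hu2]
      rcases hx with rfl | rfl | rfl | rfl <;> rcases hy with rfl | rfl | rfl | rfl <;>
        simp [ht2, hu2, hut, h3, h4, h5, h6, h7]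
    | inv x _ hx =>
      have ht' : t⁻¹ = t := inv_eq_of_mul_eq_one_right ht2
      have hu' : u⁻¹ = u := inv_eq_of_mul_eq_one_right hu2
      rcases hx with rfl | rfl | rfl | rfl <;> simp [ht', hu', hct.eq.symm]
  have hW2 : ∀ w ∈ W, w ^ 2 = 1 := by
    intro w hw
    rcases hWe w hw with rfl | rfl | rfl | rfl
    · exact one_pow 2
    · rw [sq, ht2]
    · rw [sq, hu2]
    · rw [hct.mul_pow, sq, sq, ht2, hu2, one_mul]
  have htW : t ∈ W := subset_closure (by simp)
  have huW : u ∈ W := subset_closure (by simp)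
  have hWp : IsPGroup 2 W := fun w => ⟨1, Subtype.ext (by simpa using hW2 w w.2)⟩
  have hnc : ¬ IsCyclic W := by
    intro h
    obtain ⟨g, hg⟩ := IsCyclic.exists_generator (α := W)
    have ht1 : (⟨t, htW⟩ : W) ≠ 1 := fun e => by
      rw [Subtype.ext_iff] at e
      rw [show t = 1 from e, orderOf_one] at ht; omega
    have hu1 : (⟨u, huW⟩ : W) ≠ 1 := fun e => by
      rw [Subtype.ext_iff] at e
      rw [show u = 1 from e, orderOf_one] at hu; omega
    have hg2 : g ^ 2 = 1 := Subtype.ext (by simpa using hW2 g g.2)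
    have hall : ∀ v : W, v ≠ 1 → v = g := by
      intro v hv
      obtain ⟨k, rfl⟩ := mem_zpowers_iff.1 (hg v)
      rcases Int.even_or_odd k with ⟨m, rfl⟩ | ⟨m, rfl⟩
      · exact absurd (by rw [← two_mul, zpow_mul, zpow_two, ← sq, hg2, one_zpow]) hv
      · rw [zpow_add, zpow_mul, zpow_two, ← sq, hg2, one_zpow, one_mul, zpow_one]
    exact htu (congrArg Subtype.val ((hall _ ht1).trans (hall _ hu1).symm))
  have hWR : W ≤ normalizer (R : Set G) := by
    rw [hW, closure_le]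
    rintro x (rfl | rfl) <;> apply mem_normalizer_core
    · exact hat.symm
    · exact hau.symm
  have hle : R ≤ centralizer ({t * u} : Set G) := by
    refine le_of_centralizers hWc hWR (coprime_two hp2 (core_isPGroup a) hWp).symm hnc ?_
    intro w hw hw1 r hr
    obtain ⟨hrR, hrw⟩ := mem_inf.1 hr
    have hrw' : Commute r w := mem_centralizer_singleton_iff.1 hrw
    refine mem_centralizer_singleton_iff.2 ?_
    rcases hWe w hw with rfl | rfl | rfl | rfl
    · exact absurd rfl hw1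
    · exact (hrw'.mul_right (key _ u hat h1 hau r hrR hrw')).eq
    · exact ((key _ t hau h2 hat r hrR hrw').mul_right hrw').eq
    · exact hrw'.eq
  have hmem : t * u ∈ R := mem_core_of_centralizing hP ha (hat.mul_right hau).symm
    fun r hr => (mem_centralizer_singleton_iff.1 (hle hr)).symm
  obtain ⟨i, hi⟩ := core_isPGroup (q := p) a ⟨_, hmem⟩
  have hi' : (t * u) ^ p ^ i = 1 := by simpa using congrArg Subtype.val hi
  have h1' : t * u = 1 := orderOf_eq_one_iff.1 (Nat.eq_one_of_dvd_coprimes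
    (Nat.Coprime.pow_left _ ((Nat.coprime_primes (Fact.out : p.Prime) Nat.prime_two).2 hp2))
    (orderOf_dvd_of_pow_eq_one hi')
    (orderOf_dvd_of_pow_eq_one (hW2 _ (mul_mem htW huW))))
  exact htu ((eq_inv_of_mul_eq_one_left h1').trans (inv_eq_of_mul_eq_one_right hu2))

/-- A subgroup of exponent `p` (or `4`) inside a `q`-group, detecting coprime automorphisms. -/
theorem exists_small {P Z : Subgroup G} (hP : IsPGroup q P) (hZP : Z ≤ P)
    (hZc : ∀ z ∈ Z, ∀ u ∈ P, u * z = z * u) (hZe : ∀ z ∈ Z, z ^ q = 1) :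
    ∃ D : Subgroup G, D ≤ P ∧ Z ≤ D ∧
      (∀ g ∈ normalizer (P : Set G), g ∈ normalizer (Z : Set G) → g ∈ normalizer (D : Set G)) ∧
      (∀ d ∈ D, d ^ q = 1 ∨ (q = 2 ∧ d ^ 4 = 1)) ∧
      (∀ d ∈ D, ∀ u ∈ P, ⁅d, u⁆ ∈ D ∧ ∀ e ∈ D, ⁅d, u⁆ * e = e * ⁅d, u⁆) ∧
      ∀ g ∈ normalizer (P : Set G), (orderOf g).Coprime q → (∀ d ∈ D, g * d * g⁻¹ = d) →
        ∀ u ∈ P, g * u * g⁻¹ = u := by
  set Φ : ↥(normalizer (P : Set G)) →* MulAut P := P.normalizerMonoidHom
  have hΦ : ∀ (g : ↥(normalizer (P : Set G))) (u : P), ((Φ g) u : G) = g * u * (g : G)⁻¹ :=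
    fun g u => rfl
  have hinn : ∀ u : P, MulAut.conj u ∈ Φ.range := by
    intro u
    refine ⟨⟨u, le_normalizer u.2⟩, ?_⟩
    ext a
    simp [hΦ]
  obtain ⟨D0, hD0i, -, hD0e, hD0c, hD0f, -⟩ :=
    CfsgLib.PGroup.exists_critical_invariant hP Φ.range hinn
  set D1 := D0.map P.subtype with hD1
  have hD1P : D1 ≤ P := map_subtype_le D0
  have hZD1 : Z ≤ normalizer (D1 : Set G) := by
    intro z hz
    rw [mem_normalizer_iff]
    intro u
    have hzu : ∀ v ∈ D1, z * v * z⁻¹ = v := fun v hv => by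
      rw [← hZc z hz v (hD1P hv), mul_inv_cancel_right]
    refine ⟨fun hu => by rw [hzu u hu]; exact hu, fun hu => ?_⟩
    have h1 := hzu _ hu
    have h2 : z * u * z⁻¹ = u := by
      have := congrArg (fun w => z⁻¹ * w * z) h1
      simpa [mul_assoc] using this
    rwa [h2] at hu
  set D := D1 ⊔ Z with hD
  have hdec : ∀ d ∈ D, ∃ a ∈ D0, ∃ z ∈ Z, d = (a : G) * z := by
    intro d hd
    rw [hD, ← SetLike.mem_coe, coe_mul_of_right_le_normalizer_left D1 Z hZD1] at hd
    obtain ⟨_, ⟨a, ha, rfl⟩, z, hz, rfl⟩ := hd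
    exact ⟨a, ha, z, hz, rfl⟩
  refine ⟨D, sup_le hD1P hZP, le_sup_right, ?_, ?_, ?_, ?_⟩
  · intro g hg hgZ
    have key : ∀ m ∈ normalizer (P : Set G), m ∈ normalizer (Z : Set G) → ∀ d ∈ D, m * d * m⁻¹ ∈ D := by
      intro m hm hmZ d hd
      obtain ⟨a, ha, z, hz, rfl⟩ := hdec d hd
      have h1 : Φ ⟨m, hm⟩ a ∈ D0 := by
        rw [← hD0i _ (MonoidHom.mem_range.2 ⟨⟨m, hm⟩, rfl⟩)]
        exact ⟨a, ha, rfl⟩
      rw [show m * ((a : G) * z) * m⁻¹ = (m * a * m⁻¹) * (m * z * m⁻¹) by group]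
      exact mul_mem (mem_sup_left ⟨_, h1, hΦ ⟨m, hm⟩ a⟩)
        (mem_sup_right ((mem_normalizer_iff.1 hmZ z).1 hz))
    rw [mem_normalizer_iff]
    refine fun d => ⟨key g hg hgZ d, fun h => ?_⟩
    have := key g⁻¹ (inv_mem hg) (inv_mem hgZ) _ h
    simpa [mul_assoc] using this
  · intro d hd
    obtain ⟨a, ha, z, hz, rfl⟩ := hdec d hd
    have hc : Commute (a : G) z := hZc z hz a a.2
    rcases hD0e a ha with h | ⟨h, h4⟩
    · left
      rw [hc.mul_pow, ← Subgroup.coe_pow, h, Subgroup.coe_one, hZe z hz, one_mul]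
    · right
      refine ⟨h, ?_⟩
      have hz2 := hZe z hz
      rw [h] at hz2
      rw [hc.mul_pow, ← Subgroup.coe_pow, h4, Subgroup.coe_one, one_mul, show 4 = 2 * 2 from rfl, pow_mul,
        hz2, one_pow]
  · intro d hd u hu
    obtain ⟨a, ha, z, hz, rfl⟩ := hdec d hd
    have hcom : ⁅(a : G) * z, u⁆ = ⁅(a : G), u⁆ := by
      simp only [commutatorElement_def, mul_inv_rev]
      calc (a : G) * z * u * (z⁻¹ * (a : G)⁻¹) * u⁻¹
          = (a : G) * (z * u) * z⁻¹ * (a : G)⁻¹ * u⁻¹ := by group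
        _ = (a : G) * u * (a : G)⁻¹ * u⁻¹ := by rw [← hZc z hz u hu]; group
    rw [hcom]
    obtain ⟨h1, h2⟩ := mem_inf.1 (hD0c (commutator_mem_commutator ha (mem_top (⟨u, hu⟩ : P))))
    refine ⟨mem_sup_left ⟨_, h1, by simp [commutatorElement_def]⟩, fun e he => ?_⟩
    obtain ⟨b, hb, z', hz', rfl⟩ := hdec e he
    have h3 := congrArg Subtype.val (mem_centralizer_iff.1 h2 b hb)
    simp only [commutatorElement_def, Subgroup.coe_mul, InvMemClass.coe_inv] at h3
    rw [← commutatorElement_def] at h3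
    have hcP : ⁅(a : G), u⁆ ∈ P := mul_mem (mul_mem (mul_mem a.2 hu) (inv_mem a.2)) (inv_mem hu)
    rw [← mul_assoc, ← h3, mul_assoc, mul_assoc, hZc z' hz' _ hcP]
  · intro g hg hgc hfix u hu
    have hα : Φ ⟨g, hg⟩ = 1 := by
      refine hD0f _ ⟨_, rfl⟩ ?_ fun d hd => Subtype.ext ?_
      · exact hgc.coprime_dvd_left ((orderOf_map_dvd Φ _).trans (by rw [← Subgroup.orderOf_coe]))
      · rw [hΦ]; exact hfix d (mem_sup_left ⟨d, hd, rfl⟩)
    have h := congrArg (fun f : MulAut P => ((f ⟨u, hu⟩ : P) : G)) hα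
    simpa [hΦ] using h

end CfsgLib.KlingerMason
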