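import Cfsg.Agent.Lib.KlingerMason.Basic

/-!
An involution whose centralizer has `p`-rank three has a core with a unique central involution, and
no second centre involution fixed by an element of order `p`.
-/

set_option autoImplicit false
set_option linter.unusedSectionVars false
set_option linter.style.haveILetI false

namespace CfsgLib.KlingerMason

open Subgroup
open scoped commutatorElement

variable {G : Type*} [Group G] [Finite G] {p : ℕ} [Fact p.Prime]

/-- Conjugates of `t` inside `core 2 t` in both directions form a mutual pair. -/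
theorem no_conj_pair (hp2 : p ≠ 2) (hP : LocChar p G) {a t y : G} (ha : orderOf a = p)
    (ht : orderOf t = 2) (hat : Commute a t) (hay : Commute a y) (hne : y * t * y⁻¹ ≠ t)
    (hct : Commute t (y * t * y⁻¹)) (h1 : y * t * y⁻¹ ∈ core 2 t) (h2 : y⁻¹ * t * y ∈ core 2 t) : False := by
  refine no_mutual hp2 hP ha ht ((MulEquiv.orderOf_eq (MulAut.conj y) t).trans ht) hne.symm hct hat
    ((hay.mul_right hat).mul_right hay.inv_right) h1 ?_
  show t ∈ core 2 (y * t * y⁻¹)
  rw [core_conj]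
  exact ⟨_, h2, by simp [mul_assoc]⟩

theorem sup_centralizer_isPGroup {s : G} {Q : Subgroup G} (hQ : IsPGroup 2 Q)
    (hQs : ∀ q ∈ Q, Commute q s) : IsPGroup 2 (core 2 s ⊔ Q : Subgroup G) := by
  haveI : Fact (Nat.Prime 2) := ⟨Nat.prime_two⟩
  exact (core_isPGroup s).to_sup_of_normal_left' hQ fun q hq => mem_normalizer_core (hQs q hq)

theorem mem_normalizer_sup {g : G} {A B : Subgroup G} (hA : g ∈ normalizer (A : Set G))
    (hB : g ∈ normalizer (B : Set G)) : g ∈ normalizer ((A ⊔ B : Subgroup G) : Set G) := by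
  have key : ∀ h : G, h ∈ normalizer (A : Set G) → h ∈ normalizer (B : Set G) →
      (A ⊔ B).map (MulAut.conj h).toMonoidHom ≤ A ⊔ B := by
    intro h hA hB
    rw [Subgroup.map_sup]
    refine sup_le_sup ?_ ?_
    · rintro _ ⟨a, ha, rfl⟩; exact (mem_normalizer_iff.1 hA a).1 ha
    · rintro _ ⟨b, hb, rfl⟩; exact (mem_normalizer_iff.1 hB b).1 hb
  rw [mem_normalizer_iff]
  intro u
  refine ⟨fun hu => key g hA hB ⟨u, hu, rfl⟩, fun hu => ?_⟩
  have := key g⁻¹ (inv_mem hA) (inv_mem hB) ⟨_, hu, rfl⟩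
  simpa [mul_assoc] using this

theorem mem_normalizer_inf_centralizer {g t : G} {H : Subgroup G} (hH : g ∈ normalizer (H : Set G))
    (hgt : Commute g t) : g ∈ normalizer ((H ⊓ centralizer ({t} : Set G) : Subgroup G) : Set G) := by
  rw [mem_normalizer_iff]
  intro u
  refine and_congr (mem_normalizer_iff.1 hH u) ?_
  show u ∈ centralizer ({t} : Set G) ↔ g * u * g⁻¹ ∈ centralizer ({t} : Set G)
  rw [mem_centralizer_singleton_iff, mem_centralizer_singleton_iff]
  have e : g⁻¹ * t = t * g⁻¹ := hgt.inv_left.eq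
  constructor
  · intro h
    calc g * u * g⁻¹ * t = g * (u * t) * g⁻¹ := by rw [mul_assoc _ g⁻¹ t, e]; group
      _ = g * t * (u * g⁻¹) := by rw [h]; group
      _ = t * (g * u * g⁻¹) := by rw [hgt.eq]; group
  · intro h
    calc u * t = g⁻¹ * (g * u * g⁻¹ * (g * t * g⁻¹)) * g := by group
      _ = g⁻¹ * (g * u * g⁻¹ * t) * g := by rw [hgt.eq, mul_inv_cancel_right]
      _ = g⁻¹ * t * g * u := by rw [h]; group
      _ = t * u := by rw [e, inv_mul_cancel_right]

theorem commute_of_mem_core {t : G} (ht : orderOf t = 2) {q : G} (hq : q ∈ core 2 t) : Commute q t := by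
  haveI : Fact (Nat.Prime 2) := ⟨Nat.prime_two⟩
  exact core_commute ht q hq

/-- No central involution of `core 2 t` other than `t` is centralized by a noncyclic `p`-subgroup of `C(t)`. -/
theorem central_case (hp2 : p ≠ 2) (hP : LocChar p G) (h2 : LocChar 2 G) {t s : G} (ht : orderOf t = 2)
    (hs : orderOf s = 2) (hst : s ≠ t) (hsQ : s ∈ core 2 t) (hsc : ∀ q ∈ core 2 t, Commute q s)
    {B : Subgroup G} (hBc : IsMulCommutative B) (hBe : ∀ b ∈ B, b ^ p = 1) (hB : p < Nat.card B)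
    (hBt : ∀ b ∈ B, Commute b t) (hBs : ∀ b ∈ B, Commute b s) : False := by
  haveI : Fact (Nat.Prime 2) := ⟨Nat.prime_two⟩
  have hp := (Fact.out : p.Prime)
  have hnc := not_isCyclic_of_exp hp.pos hBe hB
  have hord : ∀ b ∈ B, b ≠ 1 → orderOf b = p := fun b hb hb1 => orderOf_eq_prime (hBe b hb) hb1
  obtain ⟨b0, hb0, hb01⟩ : ∃ b ∈ B, b ≠ 1 := by
    by_contra! h
    have h1 : B = ⊥ := eq_bot_iff.2 fun b hb => mem_bot.2 (h b hb)
    rw [h1, card_bot] at hB
    exact absurd hp.one_lt (by omega)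
  set Q := core 2 t
  have htQ : t ∈ Q := self_mem_core ht
  set H := core 2 s ⊔ Q
  have hH2 : IsPGroup 2 H := sup_centralizer_isPGroup (core_isPGroup t) hsc
  set D := H ⊓ centralizer ({t} : Set G) with hD
  have hQD : Q ≤ D := fun q hq => ⟨mem_sup_right hq,
    mem_centralizer_singleton_iff.2 (commute_of_mem_core ht hq).eq⟩
  have hlt : D < H := by
    refine lt_of_le_of_ne inf_le_left fun h => ?_
    have htQs : t ∈ core 2 s := mem_core_of_centralizing h2 hs (hsc t htQ) fun r hr =>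
      (mem_centralizer_singleton_iff.1 (h.ge (mem_sup_left hr) : r ∈ D).2).symm
    exact no_mutual hp2 hP (hord b0 hb0 hb01) ht hs hst.symm (hsc t htQ) (hBt b0 hb0) (hBs b0 hb0) hsQ htQs
  set D1 := H ⊓ normalizer (D : Set G) with hD1
  obtain ⟨y0, hy0, hy0N, hy0D⟩ := CfsgLib.Transfer.exists_mem_normalizer_not_mem hH2 hlt
  have hBH : ∀ b ∈ B, b ∈ normalizer (H : Set G) := fun b hb =>
    mem_normalizer_sup (mem_normalizer_core (hBs b hb)) (mem_normalizer_core (hBt b hb))
  have hBD : ∀ b ∈ B, b ∈ normalizer (D : Set G) := fun b hb =>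
    mem_normalizer_inf_centralizer (hBH b hb) (hBt b hb)
  have hBD1 : B ≤ normalizer (D1 : Set G) := fun b hb => by
    rw [mem_normalizer_iff]
    intro u
    refine and_congr (mem_normalizer_iff.1 (hBH b hb) u) ?_
    exact mem_normalizer_iff.1 (le_normalizer (hBD b hb) : b ∈ normalizer (normalizer (D : Set G) : Set G)) u
  have hBp : IsPGroup p B := fun b => ⟨1, Subtype.ext (by simpa using hBe b b.2)⟩
  apply hy0D
  refine le_of_centralizers hBc hBD1 (coprime_two hp2 hBp (hH2.to_le inf_le_left)) hnc ?_ ⟨hy0, hy0N⟩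
  intro b hb hb1 y hy
  by_contra hyD
  obtain ⟨⟨hyH, hyN⟩, hyb⟩ := mem_inf.1 hy
  have hcomm : ∀ v ∈ normalizer (D : Set G), ∀ d ∈ D, Commute (v * t * v⁻¹) d := by
    intro v hv d hd
    have hd' : v⁻¹ * d * v ∈ D := by
      have := (mem_normalizer_iff.1 (inv_mem hv) d).1 hd
      rwa [inv_inv] at this
    have h3 := mem_centralizer_singleton_iff.1 hd'.2
    calc v * t * v⁻¹ * d = v * (t * (v⁻¹ * d * v)) * v⁻¹ := by group
      _ = d * (v * t * v⁻¹) := by rw [← h3]; group
  have hmem : ∀ v ∈ normalizer (D : Set G), v * t * v⁻¹ ∈ Q := fun v hv =>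
    mem_core_of_centralizing h2 ht (hcomm v hv t (hQD htQ)) fun r hr => hcomm v hv r (hQD hr)
  refine no_conj_pair hp2 hP (hord b hb hb1) ht (hBt b hb) (mem_centralizer_singleton_iff.1 hyb).symm
    (fun h => hyD ⟨hyH, mem_centralizer_singleton_iff.2 (mul_inv_eq_iff_eq_mul.1 h)⟩)
    (hcomm y hyN t (hQD htQ)).symm (hmem y hyN) ?_
  have := hmem y⁻¹ (inv_mem hyN)
  rwa [inv_inv] at this

/-- The central involutions of `core 2 t`. -/
theorem unique_central (hp2 : p ≠ 2) (hP : LocChar p G) (h2 : LocChar 2 G) {t : G} (ht : orderOf t = 2)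
    {A : Subgroup G} (hAc : IsMulCommutative A) (hAe : ∀ a ∈ A, a ^ p = 1) (hA : p ^ 3 ≤ Nat.card A)
    (hAt : ∀ a ∈ A, Commute a t) :
    ∀ z ∈ core 2 t, (∀ q ∈ core 2 t, Commute q z) → z ^ 2 = 1 → z = 1 ∨ z = t := by
  haveI : Fact (Nat.Prime 2) := ⟨Nat.prime_two⟩
  have hp := (Fact.out : p.Prime)
  set Q := core 2 t
  let U : Subgroup G :=
    { carrier := {z | z ∈ Q ∧ (∀ q ∈ Q, Commute q z) ∧ z ^ 2 = 1}
      one_mem' := ⟨one_mem _, fun q _ => Commute.one_right q, one_pow 2⟩
      mul_mem' := fun {a b} ha hb => ⟨mul_mem ha.1 hb.1, fun q hq => (ha.2.1 q hq).mul_right (hb.2.1 q hq),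
        by rw [(hb.2.1 a ha.1).mul_pow, ha.2.2, hb.2.2, one_mul]⟩
      inv_mem' := fun {a} ha => ⟨inv_mem ha.1, fun q hq => (ha.2.1 q hq).inv_right,
        by rw [inv_pow, ha.2.2, inv_one]⟩ }
  have hUc : IsMulCommutative U := ⟨⟨fun u v => Subtype.ext (v.2.2.1 u u.2.1)⟩⟩
  have hAU : A ≤ normalizer (U : Set G) := by
    have key : ∀ a ∈ A, ∀ z ∈ U, a * z * a⁻¹ ∈ U := by
      intro a ha z hz
      have haQ := mem_normalizer_core (q := 2) (hAt a ha)
      refine ⟨(mem_normalizer_iff.1 haQ z).1 hz.1, fun q hq => ?_, by rw [conj_pow, hz.2.2, mul_one, mul_inv_cancel]⟩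
      have hq' : a⁻¹ * q * a ∈ Q := by
        have := (mem_normalizer_iff.1 (inv_mem haQ) q).1 hq
        rwa [inv_inv] at this
      have h3 := hz.2.1 _ hq'
      calc q * (a * z * a⁻¹) = a * (a⁻¹ * q * a * z) * a⁻¹ := by group
        _ = a * z * a⁻¹ * q := by rw [h3.eq]; group
    intro a ha
    rw [mem_normalizer_iff]
    refine fun z => ⟨key a ha z, fun h => ?_⟩
    have := key a⁻¹ (inv_mem ha) _ h
    simpa [mul_assoc] using this
  have hAp : IsPGroup p A := fun a => ⟨1, Subtype.ext (by simpa using hAe a a.2)⟩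
  have hcop : (Nat.card A).Coprime (Nat.card U) :=
    coprime_two hp2 hAp ((core_isPGroup t).to_le fun z hz => hz.1)
  have hle : U ≤ zpowers t := by
    rw [← CfsgLib.Coprime.cocyclicJoin_eq hAc hAU hcop]
    refine iSup₂_le ?_
    rintro B ⟨hB, a, ha, hBa⟩ z hz
    obtain ⟨⟨hzQ, hzc, hz2⟩, hzB⟩ := mem_inf.1 hz
    by_contra hzt
    refine central_case hp2 hP h2 ht (orderOf_eq_prime hz2 fun e => hzt (e ▸ one_mem _))
      (fun e => hzt (e ▸ mem_zpowers t)) hzQ hzc (B := B) ?_ (fun b hb => hAe b (hB hb)) ?_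
      (fun b hb => hAt b (hB hb)) (fun b hb => mem_centralizer_iff.1 hzB b hb)
    · exact ⟨⟨fun u v => Subtype.ext (show (u : G) * v = v * u from congrArg Subtype.val
        (hAc.is_comm.comm (⟨u, hB u.2⟩ : A) ⟨v, hB v.2⟩))⟩⟩
    · have hBn : zpowers a ≤ normalizer (B : Set G) := by
        refine zpowers_le.2 (mem_normalizer_iff.2 fun u => ?_)
        have hfix : ∀ v ∈ B, a * v * a⁻¹ = v := fun v hv => by
          rw [show a * v = v * a from congrArg Subtype.val (hAc.is_comm.comm (⟨a, ha⟩ : A) ⟨v, hB hv⟩),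
            mul_inv_cancel_right]
        refine ⟨fun hu => by rw [hfix u hu]; exact hu, fun hu => ?_⟩
        have h3 := hfix _ hu
        have : a * u * a⁻¹ = u := by
          have := congrArg (fun w => a⁻¹ * w * a) h3
          simpa [mul_assoc] using this
        rwa [this] at hu
      have hle' : Nat.card A ≤ Nat.card B * Nat.card (zpowers a) := by
        rw [← hBa]
        show Nat.card ↥((B ⊔ zpowers a : Subgroup G) : Set G) ≤ _
        rw [coe_mul_of_right_le_normalizer_left B (zpowers a) hBn]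
        exact Set.natCard_mul_le
      have hca : Nat.card (zpowers a) ≤ p := by
        rw [Nat.card_zpowers]; exact Nat.le_of_dvd hp.pos (orderOf_dvd_of_pow_eq_one (hAe a ha))
      by_contra hcon
      have h4 : p ^ 3 ≤ p * p := (hA.trans hle').trans (Nat.mul_le_mul (not_lt.1 hcon) hca)
      rw [← sq] at h4
      have := (Nat.pow_le_pow_iff_right hp.one_lt).1 h4
      omega
  intro z hzQ hzc hz2
  obtain ⟨k, hk⟩ := mem_zpowers_iff.1 (hle (show z ∈ U from ⟨hzQ, hzc, hz2⟩))
  have ht2 : t ^ (2 : ℤ) = 1 := by rw [zpow_two, ← sq, ← ht, pow_orderOf_eq_one]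
  rcases Int.even_or_odd k with ⟨m, rfl⟩ | ⟨m, rfl⟩
  · left; rw [← hk, ← two_mul, zpow_mul, ht2, one_zpow]
  · right; rw [← hk, zpow_add, zpow_mul, ht2, one_zpow, one_mul, zpow_one]

/-- An involution moved only by `t` and fixed by an element of order `p` is impossible. -/
theorem second_case (hp2 : p ≠ 2) (hP : LocChar p G) (h2 : LocChar 2 G) {t : G} (ht : orderOf t = 2)
    (huni : ∀ z ∈ core 2 t, (∀ q ∈ core 2 t, Commute q z) → z ^ 2 = 1 → z = 1 ∨ z = t)
    {a s : G} (ha : orderOf a = p) (hat : Commute a t) (has : Commute a s) (hsQ : s ∈ core 2 t)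
    (hs : orderOf s = 2) (hst : s ≠ t) (hsc : ∀ u ∈ core 2 t, ⁅u, s⁆ = 1 ∨ ⁅u, s⁆ = t) : False := by
  haveI : Fact (Nat.Prime 2) := ⟨Nat.prime_two⟩
  have hp := (Fact.out : p.Prime)
  set Q := core 2 t
  have htQ : t ∈ Q := self_mem_core ht
  have hts : Commute t s := (commute_of_mem_core ht hsQ).symm
  have hs2 : s ^ 2 = 1 := hs ▸ pow_orderOf_eq_one s
  have ht2 : t ^ 2 = 1 := ht ▸ pow_orderOf_eq_one t
  have hs1 : s ≠ 1 := fun e => by rw [e, orderOf_one] at hs; omega
  have ht1 : t ≠ 1 := fun e => by rw [e, orderOf_one] at ht; omega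
  set C1 := Q ⊓ centralizer ({s} : Set G) with hC1
  have hsC1 : s ∈ C1 := ⟨hsQ, mem_centralizer_singleton_iff.2 rfl⟩
  have htC1 : t ∈ C1 := ⟨htQ, mem_centralizer_singleton_iff.2 hts.eq⟩
  obtain ⟨u0, hu0, hu0C⟩ : ∃ u ∈ Q, u ∉ C1 := by
    by_contra! h
    rcases huni s hsQ (fun q hq => mem_centralizer_singleton_iff.1 (h q hq).2) hs2 with e | e
    · exact hs1 e
    · exact hst e
  have hmove : ∀ u ∈ Q, u ∉ C1 → u * s * u⁻¹ = t * s := by
    intro u hu huC
    rcases hsc u hu with h | h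
    · exact absurd ⟨hu, mem_centralizer_singleton_iff.2 (commutatorElement_eq_one_iff_mul_comm.1 h)⟩ huC
    · rw [← h, commutatorElement_def]; group
  have hu0s := hmove u0 hu0 hu0C
  have hidx : ∀ u ∈ Q, u ∉ C1 → u0⁻¹ * u ∈ C1 := by
    intro u hu huC
    refine ⟨(mul_mem (inv_mem hu0) hu : u0⁻¹ * u ∈ Q), mem_centralizer_singleton_iff.2 ?_⟩
    calc u0⁻¹ * u * s = u0⁻¹ * (u * s * u⁻¹) * u := by group
      _ = u0⁻¹ * (u0 * s * u0⁻¹) * u := by rw [hmove u hu huC, hu0s]
      _ = s * (u0⁻¹ * u) := by group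
  have hu02 : u0 * u0 ∈ C1 := by
    by_contra h
    refine hu0C ?_
    have := hidx _ (mul_mem hu0 hu0) h
    simpa using this
  have hu0conj : ∀ c ∈ C1, u0 * c * u0⁻¹ ∈ C1 ∧ u0⁻¹ * c * u0 ∈ C1 := by
    intro c hc
    have hc' := mem_centralizer_singleton_iff.1 hc.2
    have hcs : ∀ v ∈ Q, v * s * v⁻¹ = s ∨ v * s * v⁻¹ = t * s := fun v hv => by
      rcases hsc v hv with h | h
      · left; rw [mul_inv_eq_iff_eq_mul]; exact commutatorElement_eq_one_iff_mul_comm.1 h
      · right; rw [← h, commutatorElement_def]; group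
    have hts' : u0⁻¹ * (t * s) * u0 = s := by rw [← hu0s]; group
    have h1 : u0 * t * u0⁻¹ = t := by
      rw [(commute_of_mem_core ht hu0).eq, mul_inv_cancel_right]
    have hct : c * t * c⁻¹ = t := by
      rw [(commute_of_mem_core ht hc.1).eq, mul_inv_cancel_right]
    refine ⟨⟨(mul_mem (mul_mem hu0 hc.1) (inv_mem hu0) : u0 * c * u0⁻¹ ∈ Q),
        mem_centralizer_singleton_iff.2 ?_⟩,
      ⟨(mul_mem (mul_mem (inv_mem hu0) hc.1) hu0 : u0⁻¹ * c * u0 ∈ Q), mem_centralizer_singleton_iff.2 ?_⟩⟩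
    · have h3 : u0⁻¹ * s * u0 = t * s := by
        have h4 : u0⁻¹ * (t * s) * u0 = t * (u0⁻¹ * s * u0) := by
          rw [← mul_assoc u0⁻¹ t s, (commute_of_mem_core ht hu0).inv_left.eq]; group
        rw [h4] at hts'
        calc u0⁻¹ * s * u0 = t⁻¹ * s := by rw [eq_inv_mul_iff_mul_eq]; exact hts'
          _ = t * s := by rw [inv_eq_of_mul_eq_one_right (by rw [← sq, ht2] : t * t = 1)]
      calc u0 * c * u0⁻¹ * s = u0 * (c * (u0⁻¹ * s * u0)) * u0⁻¹ := by group
        _ = u0 * ((c * t * c⁻¹) * (c * s)) * u0⁻¹ := by rw [h3]; group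
        _ = u0 * (t * s) * c * u0⁻¹ := by rw [hct, hc']; group
        _ = (u0 * t * u0⁻¹) * (u0 * s * u0⁻¹) * (u0 * c * u0⁻¹) := by group
        _ = t ^ 2 * s * (u0 * c * u0⁻¹) := by rw [h1, hu0s, sq]; group
        _ = s * (u0 * c * u0⁻¹) := by rw [ht2, one_mul]
    · calc u0⁻¹ * c * u0 * s = u0⁻¹ * (c * (u0 * s * u0⁻¹)) * u0 := by group
        _ = u0⁻¹ * ((c * t * c⁻¹) * (c * s)) * u0 := by rw [hu0s]; group
        _ = u0⁻¹ * (t * s) * c * u0 := by rw [hct, hc']; group
        _ = s * (u0⁻¹ * c * u0) := by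
          rw [← hu0s]; group
  have hgen : ∀ z : G, Commute z u0 → (∀ c ∈ C1, Commute z c) → ∀ q ∈ Q, Commute q z := by
    intro z h1 h3 q hq
    by_cases hqC : q ∈ C1
    · exact (h3 q hqC).symm
    · have := h1.mul_right (h3 _ (hidx q hq hqC))
      rw [mul_inv_cancel_left] at this
      exact this.symm
  -- involutions centralizing `C1`
  have hinv : ∀ z ∈ Q, z ^ 2 = 1 → (∀ c ∈ C1, Commute z c) → z = 1 ∨ z = t ∨ z = s ∨ z = t * s := by
    intro z hz hz2 hzc
    have hzC1 : z ∈ C1 := ⟨hz, mem_centralizer_singleton_iff.2 (hzc s hsC1)⟩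
    set z' := u0 * z * u0⁻¹ with hz'
    have hz'C1 : z' ∈ C1 := (hu0conj z hzC1).1
    have hzz : Commute z z' := hzc z' hz'C1
    have hz'c : ∀ c ∈ C1, Commute z' c := by
      intro c hc
      have h3 := hzc _ (hu0conj c hc).2
      calc z' * c = u0 * (z * (u0⁻¹ * c * u0)) * u0⁻¹ := by rw [hz']; group
        _ = c * z' := by rw [h3.eq, hz']; group
    have hback : u0 * z' * u0⁻¹ = z := by
      rw [hz', show u0 * (u0 * z * u0⁻¹) * u0⁻¹ = u0 * u0 * z * (u0 * u0)⁻¹ by group,
        ← (hzc _ hu02).eq, mul_inv_cancel_right]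
    have hprod : z * z' = 1 ∨ z * z' = t := by
      refine huni _ (mul_mem hz hz'C1.1) (hgen _ ?_ fun c hc => (hzc c hc).mul_left (hz'c c hc)) ?_
      · show z * z' * u0 = u0 * (z * z')
        rw [eq_comm, ← mul_inv_eq_iff_eq_mul, show u0 * (z * z') * u0⁻¹ = (u0 * z * u0⁻¹) * (u0 * z' * u0⁻¹) by group,
          hback, ← hz']
        exact hzz.eq.symm
      · rw [hzz.mul_pow, hz2, one_mul, hz', conj_pow, hz2, mul_one, mul_inv_cancel]
    rcases hprod with h | h
    · have h3 : z' = z := by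
        rw [eq_inv_of_mul_eq_one_right h]
        exact inv_eq_of_mul_eq_one_right (by rw [← sq, hz2])
      rcases huni z hz (hgen z (mul_inv_eq_iff_eq_mul.1 h3 : u0 * z = z * u0).symm hzc) hz2 with e | e
      · exact Or.inl e
      · exact Or.inr (Or.inl e)
    · have h3 : z' = z * t := by
        have h4 : z⁻¹ * t = z' := by rw [← h, inv_mul_cancel_left]
        rw [← h4, inv_eq_of_mul_eq_one_right (by rw [← sq, hz2] : z * z = 1)]
      have h4 : u0 * (z * s) * u0⁻¹ = z * s := by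
        calc u0 * (z * s) * u0⁻¹ = z' * (u0 * s * u0⁻¹) := by rw [hz']; group
          _ = z * (t * t) * s := by rw [h3, hu0s]; group
          _ = z * s := by rw [← sq, ht2, mul_one]
      have hzs : Commute z s := hzc s hsC1
      have hcs : ∀ c ∈ C1, Commute (z * s) c := fun c hc => (hzc c hc).mul_left
        (show Commute s c from (mem_centralizer_singleton_iff.1 hc.2).symm)
      rcases huni _ (mul_mem hz hsQ) (hgen _ (mul_inv_eq_iff_eq_mul.1 h4).symm hcs)
        (by rw [hzs.mul_pow, hz2, hs2, one_mul]) with e | e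
      · refine Or.inr (Or.inr (Or.inl ?_))
        rw [eq_inv_of_mul_eq_one_left e]
        exact inv_eq_of_mul_eq_one_right (by rw [← sq, hs2])
      · refine Or.inr (Or.inr (Or.inr ?_))
        rw [← e, mul_assoc, ← sq, hs2, mul_one]
  -- involutions of `C(t)` centralizing `C1`
  have hg : ∀ g : G, g ^ 2 = 1 → (∀ c ∈ C1, Commute g c) → g = 1 ∨ g = t ∨ g = s ∨ g = t * s := by
    intro g hg2 hgc
    have hgt : Commute g t := hgc t htC1
    have hgg : g * g = 1 := by rw [← sq, hg2]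
    have hgi : g⁻¹ = g := inv_eq_of_mul_eq_one_right hgg
    have hu1 : g * u0 * g⁻¹ ∈ Q := (mem_normalizer_iff.1 (mem_normalizer_core hgt) u0).1 hu0
    set z := g * u0 * g⁻¹ * u0⁻¹ with hz
    have hzQ : z ∈ Q := mul_mem hu1 (inv_mem hu0)
    have hgfix : ∀ c ∈ C1, g * c * g⁻¹ = c := fun c hc => by rw [(hgc c hc).eq, mul_inv_cancel_right]
    have hzc : ∀ c ∈ C1, Commute z c := by
      intro c hc
      have hc' := (hu0conj c hc).2
      have e2 : g * u0 * g⁻¹ * (u0⁻¹ * c * u0) * (g * u0 * g⁻¹)⁻¹ = c := by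
        have e1 : g⁻¹ * (u0⁻¹ * c * u0) * g = u0⁻¹ * c * u0 := by
          rw [mul_assoc, ← (hgc _ hc').eq, inv_mul_cancel_left]
        calc g * u0 * g⁻¹ * (u0⁻¹ * c * u0) * (g * u0 * g⁻¹)⁻¹
            = g * (u0 * (g⁻¹ * (u0⁻¹ * c * u0) * g) * u0⁻¹) * g⁻¹ := by group
          _ = g * c * g⁻¹ := by rw [e1]; group
          _ = c := hgfix c hc
      have h3 : z * c * z⁻¹ = c := by
        refine Eq.trans ?_ e2
        rw [hz]; group
      exact mul_inv_eq_iff_eq_mul.1 h3
    have hzC1 : z ∈ C1 := ⟨hzQ, mem_centralizer_singleton_iff.2 (hzc s hsC1)⟩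
    have hz2 : z ^ 2 = 1 := by
      have h3 : g * (g * u0 * g⁻¹) * g⁻¹ = u0 := by
        calc g * (g * u0 * g⁻¹) * g⁻¹ = g * g * u0 * (g * g)⁻¹ := by group
          _ = u0 := by rw [hgg]; group
      rw [show g * u0 * g⁻¹ = z * u0 by rw [hz]; group,
        show g * (z * u0) * g⁻¹ = (g * z * g⁻¹) * (g * u0 * g⁻¹) by group, hgfix z hzC1,
        show g * u0 * g⁻¹ = z * u0 by rw [hz]; group, ← mul_assoc, ← sq] at h3
      exact mul_eq_right.1 h3
    have hzu : z * (u0 * z * u0⁻¹) = 1 := by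
      have h3 : g * (u0 * u0) * g⁻¹ = u0 * u0 := hgfix _ hu02
      rw [show g * (u0 * u0) * g⁻¹ = (g * u0 * g⁻¹) * (g * u0 * g⁻¹) by group,
        show g * u0 * g⁻¹ = z * u0 by rw [hz]; group] at h3
      calc z * (u0 * z * u0⁻¹) = z * u0 * (z * u0) * (u0 * u0)⁻¹ := by group
        _ = 1 := by rw [h3, mul_inv_cancel]
    have hzfix : u0 * z * u0⁻¹ = z := by
      rw [eq_inv_of_mul_eq_one_right hzu]; exact inv_eq_of_mul_eq_one_right (by rw [← sq, hz2])
    have hu0t : u0 * t * u0⁻¹ = t := by rw [(commute_of_mem_core ht hu0).eq, mul_inv_cancel_right]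
    have hcases : z = 1 ∨ z = t := by
      rcases hinv z hzQ hz2 hzc with e | e | e | e
      · exact Or.inl e
      · exact Or.inr e
      · rw [e, hu0s] at hzfix
        exact absurd (mul_eq_right.1 hzfix) ht1
      · rw [e, show u0 * (t * s) * u0⁻¹ = (u0 * t * u0⁻¹) * (u0 * s * u0⁻¹) by group, hu0t, hu0s] at hzfix
        exact absurd (mul_eq_right.1 (mul_left_cancel hzfix)) ht1
    rcases hcases with e | e
    · have h3 : Commute g u0 := by
        rw [hz, mul_inv_eq_one, mul_inv_eq_iff_eq_mul] at e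
        exact e
      rcases huni g (mem_core_of_centralizing h2 ht hgt fun r hr => (hgen g h3 hgc r hr).eq.symm)
        (hgen g h3 hgc) hg2 with e' | e'
      · exact Or.inl e'
      · exact Or.inr (Or.inl e')
    · have hgs : Commute g s := hgc s hsC1
      have h3 : Commute (g * s) u0 := by
        have e1 : g * u0 * g⁻¹ = t * u0 := by rw [← e, hz]; group
        show g * s * u0 = u0 * (g * s)
        rw [eq_comm, ← mul_inv_eq_iff_eq_mul]
        have e2 : u0 * g * u0⁻¹ = t * g := by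
          have e3 : g * u0 = t * u0 * g := mul_inv_eq_iff_eq_mul.1 e1
          calc u0 * g * u0⁻¹ = t⁻¹ * (t * u0 * g) * u0⁻¹ := by group
            _ = t⁻¹ * (g * u0) * u0⁻¹ := by rw [e3]
            _ = t * g := by rw [inv_eq_of_mul_eq_one_right (by rw [← sq, ht2] : t * t = 1)]; group
        calc u0 * (g * s) * u0⁻¹ = (u0 * g * u0⁻¹) * (u0 * s * u0⁻¹) := by group
          _ = t * (g * t) * s := by rw [e2, hu0s]; group
          _ = t ^ 2 * g * s := by rw [hgt.eq, sq]; group
          _ = g * s := by rw [ht2, one_mul]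
      have hcs : ∀ c ∈ C1, Commute (g * s) c := fun c hc => (hgc c hc).mul_left
        (show Commute s c from (mem_centralizer_singleton_iff.1 hc.2).symm)
      have hq := hgen _ h3 hcs
      rcases huni _ (mem_core_of_centralizing h2 ht (hgt.mul_left hts.symm) fun r hr => (hq r hr).eq.symm)
        hq (by rw [hgs.mul_pow, hg2, hs2, one_mul]) with e' | e'
      · refine Or.inr (Or.inr (Or.inl ?_))
        rw [eq_inv_of_mul_eq_one_left e']
        exact inv_eq_of_mul_eq_one_right (by rw [← sq, hs2])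
      · refine Or.inr (Or.inr (Or.inr ?_))
        rw [← e', mul_assoc, ← sq, hs2, mul_one]
  -- the group `H`
  set H := core 2 s ⊔ C1
  have hC1s : ∀ q ∈ C1, Commute q s := fun q hq => mem_centralizer_singleton_iff.1 hq.2
  have hH2 : IsPGroup 2 H := sup_centralizer_isPGroup ((core_isPGroup t).to_le inf_le_left) hC1s
  have hHs : ∀ h ∈ H, Commute h s := by
    intro h hh
    have hle : H ≤ centralizer ({s} : Set G) := sup_le
      (fun r hr => mem_centralizer_singleton_iff.2 (commute_of_mem_core hs hr).eq) inf_le_right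
    exact mem_centralizer_singleton_iff.1 (hle hh)
  set D := H ⊓ centralizer ({t} : Set G) with hD
  have hC1D : C1 ≤ D := fun q hq => ⟨mem_sup_right hq,
    mem_centralizer_singleton_iff.2 (commute_of_mem_core ht hq.1).eq⟩
  have hlt : D < H := by
    refine lt_of_le_of_ne inf_le_left fun h => ?_
    have htQs : t ∈ core 2 s := mem_core_of_centralizing h2 hs hts fun r hr =>
      (mem_centralizer_singleton_iff.1 (h.ge (mem_sup_left hr) : r ∈ D).2).symm
    exact no_mutual hp2 hP ha ht hs hst.symm hts hat has hsQ htQs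
  obtain ⟨y0, hy0, hy0N, hy0D⟩ := CfsgLib.Transfer.exists_mem_normalizer_not_mem hH2 hlt
  set D1 := H ⊓ normalizer (D : Set G) with hD1
  have himage : ∀ y ∈ D1, y ∉ D → y * t * y⁻¹ = t * s := by
    intro y hy hyD
    have hcomm : ∀ c ∈ C1, Commute (y * t * y⁻¹) c := by
      intro c hc
      have hd' : y⁻¹ * c * y ∈ D := by
        have := (mem_normalizer_iff.1 (inv_mem hy.2) c).1 (hC1D hc)
        rwa [inv_inv] at this
      have h3 := mem_centralizer_singleton_iff.1 hd'.2
      calc y * t * y⁻¹ * c = y * (t * (y⁻¹ * c * y)) * y⁻¹ := by group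
        _ = c * (y * t * y⁻¹) := by rw [← h3]; group
    rcases hg _ (by rw [conj_pow, ht2, mul_one, mul_inv_cancel]) hcomm with e | e | e | e
    · exact absurd (conj_eq_one_iff.1 e) ht1
    · exact absurd ⟨hy.1, mem_centralizer_singleton_iff.2 (mul_inv_eq_iff_eq_mul.1 e)⟩ hyD
    · have h3 : y⁻¹ * s * y = s := by
        rw [mul_assoc, ← (hHs y hy.1).eq, inv_mul_cancel_left]
      have h4 : t = s := by
        rw [← h3, ← e]; group
      exact absurd h4.symm hst
    · exact e
  have haH : a ∈ normalizer (H : Set G) := by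
    refine mem_normalizer_sup (mem_normalizer_core has) ?_
    rw [hC1]
    exact mem_normalizer_inf_centralizer (mem_normalizer_core hat) has
  have haD := mem_normalizer_inf_centralizer haH hat
  have haD1 : a ∈ normalizer (D1 : Set G) := by
    rw [mem_normalizer_iff]
    intro u
    refine and_congr (mem_normalizer_iff.1 haH u) ?_
    exact mem_normalizer_iff.1 (le_normalizer haD : a ∈ normalizer (normalizer (D : Set G) : Set G)) u
  have hzaN : zpowers a ≤ normalizer (D1 : Set G) := zpowers_le.2 haD1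
  have hap : IsPGroup p (zpowers a) := IsPGroup.of_card (n := 1) (by rw [Nat.card_zpowers, ha, pow_one])
  have hsol : Group.IsSolvable (zpowers a) := Group.isSolvable_of_comm fun x y => mul_comm' x y
  have hsplit := CfsgLib.Coprime.commutator_sup_centralizer hzaN
    (coprime_two hp2 hap (hH2.to_le inf_le_left)) (Or.inl hsol)
  have hcomD : ⁅D1, zpowers a⁆ ≤ D := by
    rw [Subgroup.commutator_le]
    intro y hy b hb
    have hbt : Commute b t := by
      obtain ⟨k, rfl⟩ := mem_zpowers_iff.1 hb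
      exact hat.zpow_left k
    have hmem : ⁅y, b⁆ ∈ D1 := by
      have := mul_mem hy ((mem_normalizer_iff.1 (hzaN hb) y⁻¹).1 (inv_mem hy))
      simpa [commutatorElement_def, mul_assoc] using this
    refine ⟨hmem.1, mem_centralizer_singleton_iff.2 ?_⟩
    by_cases hyD : y ∈ D
    · have hb' : b ∈ normalizer (D : Set G) := by
        obtain ⟨k, rfl⟩ := mem_zpowers_iff.1 hb
        exact zpow_mem haD k
      have := mul_mem hyD ((mem_normalizer_iff.1 hb' y⁻¹).1 (inv_mem hyD))
      exact mem_centralizer_singleton_iff.1 (show ⁅y, b⁆ ∈ D by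
        simpa [commutatorElement_def, mul_assoc] using this).2
    · have h1 := himage y hy hyD
      have h1' : y⁻¹ * t * y = t * s := by
        have := himage y⁻¹ (inv_mem hy) (fun h => hyD (inv_mem_iff.1 h))
        rwa [inv_inv] at this
      have hbs : Commute b s := by
        obtain ⟨k, rfl⟩ := mem_zpowers_iff.1 hb
        exact has.zpow_left k
      rw [← mul_inv_eq_iff_eq_mul, commutatorElement_def]
      calc y * b * y⁻¹ * b⁻¹ * t * (y * b * y⁻¹ * b⁻¹)⁻¹
          = y * b * y⁻¹ * (b⁻¹ * t * b) * y * b⁻¹ * y⁻¹ := by group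
        _ = y * b * (y⁻¹ * t * y) * b⁻¹ * y⁻¹ := by
            rw [mul_assoc b⁻¹ t b, ← hbt.eq, inv_mul_cancel_left]; group
        _ = y * (t * s) * y⁻¹ := by
            rw [h1', show y * b * (t * s) * b⁻¹ = y * (b * (t * s) * b⁻¹) by group,
              (hbt.mul_right hbs).eq, mul_inv_cancel_right]
        _ = t := by rw [← h1']; group
  obtain ⟨y, ⟨hy, hya⟩, hyD⟩ : ∃ y, y ∈ D1 ⊓ centralizer ((zpowers a : Subgroup G) : Set G) ∧ y ∉ D := by
    by_contra! h
    exact hy0D (sup_le hcomD h (hsplit.ge ⟨hy0, hy0N⟩))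
  have h1 := himage y hy hyD
  have h1' := himage y⁻¹ (inv_mem hy) (fun h => hyD (inv_mem_iff.1 h))
  rw [inv_inv] at h1'
  refine no_conj_pair hp2 hP ha ht hat (mem_centralizer_iff.1 hya a (mem_zpowers a)) ?_ ?_ ?_ ?_
  · rw [h1]; exact fun e => hs1 (mul_eq_left.1 e)
  · rw [h1]; exact (Commute.refl t).mul_right hts
  · rw [h1]; exact mul_mem htQ hsQ
  · rw [h1']; exact mul_mem htQ hsQ

end CfsgLib.KlingerMason
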