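import Cfsg.Agent.Lib.KlingerMason.Central
import Cfsg.Agent.Lib.OddLocal.PGroup

/-!
An involution with centralizer of `p`-rank three, and a second involution of its core moved only by it.
-/

set_option autoImplicit false
set_option linter.unusedSectionVars false
set_option linter.style.haveILetI false

namespace CfsgLib.KlingerMason

open Subgroup
open scoped commutatorElement

variable {G : Type*} [Group G] [Finite G] {p : ℕ} [Fact p.Prime]

theorem le_normalizer_of_conj_mem {A X : Subgroup G} (h : ∀ a ∈ A, ∀ z ∈ X, a * z * a⁻¹ ∈ X) :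
    A ≤ normalizer (X : Set G) := by
  intro a ha
  rw [mem_normalizer_iff]
  refine fun z => ⟨h a ha z, fun hz => ?_⟩
  have := h a⁻¹ (inv_mem ha) _ hz
  simpa [mul_assoc] using this

theorem isMulCommutative_of_le' {A B : Subgroup G} (hA : IsMulCommutative A) (hB : B ≤ A) :
    IsMulCommutative B :=
  ⟨⟨fun u v => Subtype.ext (show (u : G) * v = v * u from congrArg Subtype.val
    (hA.is_comm.comm (⟨u, hB u.2⟩ : A) ⟨v, hB v.2⟩))⟩⟩

theorem commute_of_mem {A : Subgroup G} (hA : IsMulCommutative A) {a b : G} (ha : a ∈ A) (hb : b ∈ A) :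
    Commute a b :=
  congrArg Subtype.val (hA.is_comm.comm (⟨a, ha⟩ : A) ⟨b, hb⟩)

theorem eq_one_or_eq_of_mem_zpowers {t z : G} (ht : orderOf t = 2) (hz : z ∈ zpowers t) : z = 1 ∨ z = t := by
  obtain ⟨k, rfl⟩ := mem_zpowers_iff.1 hz
  have ht2 : t ^ (2 : ℤ) = 1 := by rw [zpow_two, ← sq, ← ht, pow_orderOf_eq_one]
  rcases Int.even_or_odd k with ⟨m, rfl⟩ | ⟨m, rfl⟩
  · left; rw [← two_mul, zpow_mul, ht2, one_zpow]
  · right; rw [zpow_add, zpow_mul, ht2, one_zpow, one_mul, zpow_one]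

/-- Some point outside `Y` is fixed by a subgroup of index at most `p`. -/
theorem exists_cocyclic {A X Y : Subgroup G} (hAc : IsMulCommutative A) (hAe : ∀ a ∈ A, a ^ p = 1)
    (hAX : A ≤ normalizer (X : Set G)) (hcop : (Nat.card A).Coprime (Nat.card X)) (hXY : ¬ X ≤ Y) :
    ∃ B ≤ A, Nat.card A ≤ Nat.card B * p ∧ ∃ x ∈ X, x ∉ Y ∧ ∀ b ∈ B, Commute b x := by
  by_contra hcon
  apply hXY
  rw [← CfsgLib.Coprime.cocyclicJoin_eq hAc hAX hcop]
  refine iSup₂_le ?_
  rintro B ⟨hB, a, ha, hBa⟩ x hx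
  by_contra hxY
  refine hcon ⟨B, hB, ?_, x, (mem_inf.1 hx).1, hxY, fun b hb => mem_centralizer_iff.1 (mem_inf.1 hx).2 b hb⟩
  have hBn : zpowers a ≤ normalizer (B : Set G) := le_normalizer_of_conj_mem fun g hg b hb => by
    rw [(commute_of_mem hAc (zpowers_le.2 ha hg) (hB hb)).eq, mul_inv_cancel_right]
    exact hb
  have hca : Nat.card (zpowers a) ≤ p := by
    rw [Nat.card_zpowers]
    exact Nat.le_of_dvd (Fact.out : p.Prime).pos (orderOf_dvd_of_pow_eq_one (hAe a ha))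
  refine le_trans ?_ (Nat.mul_le_mul_left _ hca)
  rw [← hBa]
  show Nat.card ↥((B ⊔ zpowers a : Subgroup G) : Set G) ≤ _
  rw [coe_mul_of_right_le_normalizer_left B (zpowers a) hBn]
  exact Set.natCard_mul_le

theorem isPGroup_of_exp {A : Subgroup G} (hAe : ∀ a ∈ A, a ^ p = 1) : IsPGroup p A :=
  fun a => ⟨1, Subtype.ext (by simpa using hAe a a.2)⟩

/-- Shrink to order exactly `p ^ 3`. -/
theorem exists_card_cube {A : Subgroup G} (hAc : IsMulCommutative A) (hAe : ∀ a ∈ A, a ^ p = 1)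
    (hA : p ^ 3 ≤ Nat.card A) :
    ∃ A' ≤ A, IsMulCommutative A' ∧ (∀ a ∈ A', a ^ p = 1) ∧ Nat.card A' = p ^ 3 := by
  obtain ⟨n, hn⟩ := IsPGroup.iff_card.1 (isPGroup_of_exp hAe)
  have h3 : 3 ≤ n := (Nat.pow_le_pow_iff_right (Fact.out : p.Prime).one_lt).1 (hn ▸ hA)
  obtain ⟨K, hK⟩ := Sylow.exists_subgroup_card_pow_prime p (n := 3) (G := A) (hn ▸ Nat.pow_dvd_pow p h3)
  refine ⟨K.map A.subtype, map_subtype_le K, isMulCommutative_of_le' hAc (map_subtype_le K),
    fun a ha => hAe a (map_subtype_le K ha), ?_⟩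
  rw [card_map_of_injective A.subtype_injective, hK]

/-- The involutions (and `1`) central in `Q`. -/
def omegaCenter (Q : Subgroup G) : Subgroup G where
  carrier := {z | z ∈ Q ∧ (∀ q ∈ Q, Commute q z) ∧ z ^ 2 = 1}
  one_mem' := ⟨one_mem _, fun q _ => Commute.one_right q, one_pow 2⟩
  mul_mem' := fun {a b} ha hb => ⟨mul_mem ha.1 hb.1, fun q hq => (ha.2.1 q hq).mul_right (hb.2.1 q hq),
    by rw [(hb.2.1 a ha.1).mul_pow, ha.2.2, hb.2.2, one_mul]⟩
  inv_mem' := fun {a} ha => ⟨inv_mem ha.1, fun q hq => (ha.2.1 q hq).inv_right,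
    by rw [inv_pow, ha.2.2, inv_one]⟩

theorem mem_omegaCenter {Q : Subgroup G} {z : G} :
    z ∈ omegaCenter Q ↔ z ∈ Q ∧ (∀ q ∈ Q, Commute q z) ∧ z ^ 2 = 1 := Iff.rfl

theorem omegaCenter_le (Q : Subgroup G) : omegaCenter Q ≤ Q := fun _ hz => hz.1

theorem normalizer_le_normalizer_omegaCenter (Q : Subgroup G) :
    normalizer (Q : Set G) ≤ normalizer (omegaCenter Q : Set G) := by
  refine le_normalizer_of_conj_mem fun g hg z hz => ?_
  refine ⟨(mem_normalizer_iff.1 hg z).1 hz.1, fun q hq => ?_, by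
    rw [conj_pow, hz.2.2, mul_one, mul_inv_cancel]⟩
  have hq' : g⁻¹ * q * g ∈ Q := by
    have := (mem_normalizer_iff.1 (inv_mem hg) q).1 hq
    rwa [inv_inv] at this
  calc q * (g * z * g⁻¹) = g * (g⁻¹ * q * g * z) * g⁻¹ := by group
    _ = g * z * g⁻¹ * q := by rw [(hz.2.1 _ hq').eq]; group

theorem normalizer_le_normalizer_inf_centralizer (Q B : Subgroup G) :
    normalizer (Q : Set G) ⊓ normalizer (B : Set G) ≤
      normalizer ((Q ⊓ centralizer (B : Set G) : Subgroup G) : Set G) := by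
  refine le_normalizer_of_conj_mem fun g hg z hz => ?_
  refine ⟨(mem_normalizer_iff.1 hg.1 z).1 hz.1, mem_centralizer_iff.2 fun b hb => ?_⟩
  have hb' : g⁻¹ * b * g ∈ B := by
    have := (mem_normalizer_iff.1 (inv_mem hg.2) b).1 hb
    rwa [inv_inv] at this
  calc b * (g * z * g⁻¹) = g * (g⁻¹ * b * g * z) * g⁻¹ := by group
    _ = g * z * g⁻¹ * b := by rw [mem_centralizer_iff.1 hz.2 _ hb']; group

/-- The `p`-core of a normalizer, the fixed points of `B`. -/
theorem exists_rank_three_centralizer (hp2 : p ≠ 2) (hP : LocChar p G) (h2 : LocChar 2 G) {T : Subgroup G}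
    (hT : IsPGroup 2 T) (hT1 : T ≠ ⊥) {A : Subgroup G} (hAT : A ≤ normalizer (T : Set G))
    (hAc : IsMulCommutative A) (hAe : ∀ a ∈ A, a ^ p = 1) (hA : p ^ 3 ≤ Nat.card A) :
    ∃ (w : G) (E : Subgroup G), orderOf w = 2 ∧ IsMulCommutative E ∧ (∀ e ∈ E, e ^ p = 1) ∧
      p ^ 3 ≤ Nat.card E ∧ ∀ e ∈ E, Commute e w := by
  haveI : Fact (Nat.Prime 2) := ⟨Nat.prime_two⟩
  have hp := (Fact.out : p.Prime)
  have hAp := isPGroup_of_exp hAe
  set Q0 := Cfsg.pCoreOf 2 (normalizer (T : Set G))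
  have hQ0 : IsPGroup 2 Q0 := CfsgLib.Amalgam.isPGroup_pCoreOf _
  have hAQ0 : A ≤ normalizer (Q0 : Set G) := hAT.trans (CfsgLib.Amalgam.le_normalizer_pCoreOf _)
  obtain ⟨a0, ha0, ha01⟩ : ∃ a ∈ A, a ≠ 1 := by
    by_contra! h
    have h1 : A = ⊥ := eq_bot_iff.2 fun a ha => mem_bot.2 (h a ha)
    rw [h1, card_bot] at hA
    have := Nat.one_lt_pow (n := 3) (by norm_num) hp.one_lt
    omega
  have hne : Q0 ≠ ⊥ := by
    intro h
    refine ha01 (mem_bot.1 (h ▸ mem_pCoreOf_of_centralizing h2 hT hT1 (hAT ha0) fun r hr => ?_))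
    rw [mem_bot.1 (h.le hr)]; simp
  have hU0 : ¬ omegaCenter Q0 ≤ ⊥ := by
    haveI : Nontrivial Q0 := (nontrivial_iff_ne_bot _).2 hne
    haveI := hQ0.center_nontrivial
    have hd : 2 ∣ Nat.card (center Q0) := by
      obtain ⟨n, hn⟩ := IsPGroup.iff_card.1 (hQ0.to_subgroup (center Q0))
      have h1 : 1 < Nat.card (center Q0) := Finite.one_lt_card
      cases n with
      | zero => rw [hn, pow_zero] at h1; omega
      | succ m => rw [hn, pow_succ]; exact dvd_mul_left _ _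
    obtain ⟨z, hz⟩ := exists_prime_orderOf_dvd_card' 2 hd
    intro hle
    have hz2 : z ^ 2 = 1 := hz ▸ pow_orderOf_eq_one z
    have hmem : ((z : Q0) : G) ∈ omegaCenter Q0 := by
      refine ⟨(z : Q0).2, fun q hq => ?_, by simpa using congrArg (fun x : center Q0 => ((x : Q0) : G)) hz2⟩
      exact congrArg Subtype.val (mem_center_iff.1 z.2 ⟨q, hq⟩)
    have hz1 : z = 1 := Subtype.ext (Subtype.ext (mem_bot.1 (hle hmem)))
    rw [hz1, orderOf_one] at hz
    omega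
  obtain ⟨B, hBA, hBcard, w, hwU, hw1, hwB⟩ := exists_cocyclic hAc hAe
    (hAQ0.trans (normalizer_le_normalizer_omegaCenter Q0))
    (coprime_two hp2 hAp (hQ0.to_le (omegaCenter_le Q0))) hU0
  have hw : orderOf w = 2 := orderOf_eq_prime hwU.2.2 fun e => hw1 (mem_bot.2 e)
  by_cases hAw : ∀ a ∈ A, Commute a w
  · exact ⟨w, A, hw, hAc, hAe, hA, hAw⟩
  push Not at hAw
  obtain ⟨a', ha', hne'⟩ := hAw
  have hBp : IsPGroup p B := isPGroup_of_exp fun b hb => hAe b (hBA hb)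
  obtain ⟨i, hi⟩ := IsPGroup.iff_card.1 hBp
  have hi2 : 2 ≤ i := by
    have h1 : p ^ 3 ≤ p ^ (i + 1) := by rw [pow_succ p i, ← hi]; exact hA.trans hBcard
    have := (Nat.pow_le_pow_iff_right hp.one_lt).1 h1
    omega
  have hB1 : B ≠ ⊥ := by
    intro h
    rw [h, card_bot] at hi
    have := Nat.one_lt_pow (n := i) (by omega) hp.one_lt
    omega
  -- the four group
  set W := omegaCenter Q0 ⊓ centralizer (B : Set G)
  have hwW : w ∈ W := ⟨hwU, mem_centralizer_iff.2 fun b hb => hwB b hb⟩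
  have haQ : a' ∈ normalizer (omegaCenter Q0 : Set G) := normalizer_le_normalizer_omegaCenter Q0 (hAQ0 ha')
  have hw'W : a' * w * a'⁻¹ ∈ W := by
    refine ⟨(mem_normalizer_iff.1 haQ w).1 hwU, mem_centralizer_iff.2 fun b hb => ?_⟩
    have hc := commute_of_mem hAc (hBA hb) ha'
    exact ((hc.mul_right (hwB b hb)).mul_right hc.inv_right).eq
  have hWc : IsMulCommutative W := ⟨⟨fun u v => Subtype.ext (v.2.1.2.1 u u.2.1.1)⟩⟩
  have hWe : ∀ v ∈ W, v ^ 2 = 1 := fun v hv => hv.1.2.2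
  have hWp : IsPGroup 2 W := fun v => ⟨1, Subtype.ext (by simpa using hWe v v.2)⟩
  have hWnc : ¬ IsCyclic W := by
    refine not_isCyclic_of_exp (by norm_num) hWe ?_
    have hle : zpowers w ≤ W := zpowers_le.2 hwW
    rw [← hw, ← Nat.card_zpowers]
    refine lt_of_le_of_ne (Nat.le_of_dvd Nat.card_pos (card_dvd_of_le hle)) fun h => ?_
    have h1 := eq_of_le_of_card_ge hle h.ge
    rcases eq_one_or_eq_of_mem_zpowers hw (h1.ge hw'W) with e | e
    · exact hw1 (mem_bot.2 (conj_eq_one_iff.1 e))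
    · exact hne' (mul_inv_eq_iff_eq_mul.1 e)
  -- the `p`-core
  set R := Cfsg.pCoreOf p (normalizer (B : Set G))
  have hR : IsPGroup p R := CfsgLib.Amalgam.isPGroup_pCoreOf _
  have hBc := isMulCommutative_of_le' hAc hBA
  have hBR : B ≤ R := CfsgLib.Amalgam.le_pCoreOf le_normalizer le_rfl hBp
  set R' := R ⊓ centralizer (B : Set G) with hR'
  have hBR' : B ≤ R' := fun b hb => ⟨hBR hb, mem_centralizer_iff.2 fun c hc => commute_of_mem hBc hc hb⟩
  have hWB : W ≤ normalizer (B : Set G) := fun v hv => centralizer_le_normalizer _ hv.2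
  have hWR : W ≤ normalizer (R : Set G) := hWB.trans (CfsgLib.Amalgam.le_normalizer_pCoreOf _)
  have hWR' : W ≤ normalizer (R' : Set G) :=
    (le_inf hWR hWB).trans (normalizer_le_normalizer_inf_centralizer R B)
  have hord : ∀ v ∈ W, v ≠ 1 → orderOf v = 2 := fun v hv hv1 => orderOf_eq_prime (hWe v hv) hv1
  have hcopW : ∀ v ∈ W, v ≠ 1 → (orderOf v).Coprime p := fun v hv hv1 => by
    rw [hord v hv hv1]
    exact (Nat.coprime_primes Nat.prime_two hp).2 (Ne.symm hp2)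
  have hnofix : ∀ v ∈ W, v ≠ 1 → ¬ ∀ u ∈ R', v * u * v⁻¹ = u := by
    intro v hv hv1 hfix
    have hvB := hv.2
    have hall : ∀ r ∈ R, v * r * v⁻¹ = r := by
      intro r hr
      have hrB := mem_normalizer_iff.1 (CfsgLib.Amalgam.pCoreOf_le _ hr)
      have hzR' : v * r * v⁻¹ * r⁻¹ ∈ R' := by
        refine ⟨(mul_mem ((mem_normalizer_iff.1 (hWR hv) r).1 hr) (inv_mem hr) :
          v * r * v⁻¹ * r⁻¹ ∈ R), mem_centralizer_iff.2 fun b hb => ?_⟩
        have hb' : r⁻¹ * b * r ∈ B := by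
          rw [SetLike.mem_coe] at hb
          rw [hrB (r⁻¹ * b * r)]
          simpa [mul_assoc] using hb
        have e1 : v⁻¹ * (r⁻¹ * b * r) * v = r⁻¹ * b * r := by
          rw [mul_assoc, mem_centralizer_iff.1 hvB _ hb', inv_mul_cancel_left]
        have e2 : v * b * v⁻¹ = b := by
          rw [← mem_centralizer_iff.1 hvB b hb, mul_inv_cancel_right]
        rw [eq_comm, ← mul_inv_eq_iff_eq_mul]
        calc v * r * v⁻¹ * r⁻¹ * b * (v * r * v⁻¹ * r⁻¹)⁻¹
            = v * r * (v⁻¹ * (r⁻¹ * b * r) * v) * r⁻¹ * v⁻¹ := by group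
          _ = v * b * v⁻¹ := by rw [e1]; group
          _ = b := e2
      refine CfsgLib.OddLocal.conj_eq_of_stabilizes R' v r hzR' (hfix _ hzR') ?_
      · obtain ⟨m, hm⟩ := IsPGroup.iff_card.1 (hR.to_le (inf_le_left : R' ≤ R))
        rw [hm]
        exact (hcopW v hv hv1).pow_right m
    have hvR : v ∈ R :=
      mem_pCoreOf_of_centralizing hP hBp hB1 (hWB hv) fun r hr => mul_inv_eq_iff_eq_mul.1 (hall r hr)
    obtain ⟨m, hm⟩ := hR ⟨v, hvR⟩
    have hm' : v ^ p ^ m = 1 := by simpa using congrArg Subtype.val hm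
    exact hv1 (orderOf_eq_one_iff.1
      ((hcopW v hv hv1).pow_right m |>.eq_one_of_dvd (orderOf_dvd_of_pow_eq_one hm')))
  obtain ⟨D, hDR, hBD, hDinv, hDe, -, hDdet⟩ := exists_small (q := p) (hR.to_le (inf_le_left : R' ≤ R)) hBR'
    (fun z hz u hu => (mem_centralizer_iff.1 hu.2 z hz).symm) (fun z hz => hAe z (hBA hz))
  have hDp : ∀ d ∈ D, d ^ p = 1 := fun d hd => (hDe d hd).resolve_right fun h => hp2 h.1
  have hWD : W ≤ normalizer (D : Set G) := fun v hv => hDinv v (hWR' hv) (hWB hv)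
  obtain ⟨v, hv, hv1, r, hrD, hrv, hrB⟩ : ∃ v ∈ W, v ≠ 1 ∧ ∃ r ∈ D, Commute r v ∧ r ∉ B := by
    by_contra hcon
    have hDB : D ≤ B := le_of_centralizers hWc hWD
      (coprime_two hp2 (isPGroup_of_exp hDp) hWp).symm hWnc fun v hv hv1 r hr => by
        by_contra hrB
        exact hcon ⟨v, hv, hv1, r, (mem_inf.1 hr).1,
          mem_centralizer_singleton_iff.1 (mem_inf.1 hr).2, hrB⟩
    have hw1' : w ≠ 1 := fun e => hw1 (mem_bot.2 e)
    refine hnofix w hwW hw1' (hDdet w (hWR' hwW) (hcopW w hwW hw1') fun d hd => ?_)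
    rw [← mem_centralizer_iff.1 hwW.2 d (hDB hd), mul_inv_cancel_right]
  have hrR' : r ∈ R' := hDR hrD
  have hEc : IsMulCommutative (B ⊔ zpowers r : Subgroup G) := by
    rw [← Subgroup.closure_eq B, zpowers_eq_closure, ← Subgroup.closure_union]
    refine isMulCommutative_closure fun x hx y hy => ?_
    rcases hx with hx | hx <;> rcases hy with hy | hy
    · exact commute_of_mem hBc hx hy
    · rw [Set.mem_singleton_iff.1 hy]; exact mem_centralizer_iff.1 hrR'.2 x hx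
    · rw [Set.mem_singleton_iff.1 hx]; exact (mem_centralizer_iff.1 hrR'.2 y hy).symm
    · rw [Set.mem_singleton_iff.1 hx, Set.mem_singleton_iff.1 hy]
  have hEe : ∀ e ∈ (B ⊔ zpowers r : Subgroup G), e ^ p = 1 := by
    intro e he
    exact hDp e ((sup_le hBD (zpowers_le.2 hrD)) he)
  refine ⟨v, B ⊔ zpowers r, hord v hv hv1, hEc, hEe, ?_, ?_⟩
  · obtain ⟨j, hj⟩ := IsPGroup.iff_card.1 (isPGroup_of_exp hEe)
    have hlt : B < B ⊔ zpowers r := lt_of_le_of_ne le_sup_left fun h =>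
      hrB (h.ge (mem_sup_right (mem_zpowers r)))
    have h1 : Nat.card B < Nat.card ↥(B ⊔ zpowers r : Subgroup G) :=
      lt_of_le_of_ne (Nat.le_of_dvd Nat.card_pos (card_dvd_of_le hlt.le)) fun h =>
        hlt.ne (eq_of_le_of_card_ge hlt.le h.ge)
    rw [hi, hj] at h1
    have := (Nat.pow_lt_pow_iff_right hp.one_lt).1 h1
    rw [hj]
    exact Nat.pow_le_pow_right hp.pos (by omega)
  · intro e he
    have hle : B ⊔ zpowers r ≤ centralizer ({v} : Set G) := sup_le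
      (fun b hb => mem_centralizer_singleton_iff.2 (mem_centralizer_iff.1 hv.2 b hb))
      (zpowers_le.2 (mem_centralizer_singleton_iff.2 hrv.eq))
    exact mem_centralizer_singleton_iff.1 (hle he)

theorem commutator_sq_eq_one {s u : G} (hs : s ^ 2 = 1) (hc : Commute ⁅s, u⁆ s) : ⁅s, u⁆ ^ 2 = 1 := by
  have hs' : s * s = 1 := by rw [← sq, hs]
  have hsi : s⁻¹ = s := inv_eq_of_mul_eq_one_right hs'
  calc ⁅s, u⁆ ^ 2 = ⁅s, u⁆ * (⁅s, u⁆ * s) * s⁻¹ := by rw [sq]; group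
    _ = ⁅s, u⁆ * (s * ⁅s, u⁆) * s⁻¹ := by rw [hc.eq]
    _ = 1 := by rw [commutatorElement_def, hsi]; group; simp [hs', mul_assoc]

/-- A second involution of `core 2 t`, moved only by `t` and centralized by an element of order `p`. -/
theorem exists_second (hp2 : p ≠ 2) (h2 : LocChar 2 G) {t : G} (ht : orderOf t = 2) {A : Subgroup G}
    (hAc : IsMulCommutative A) (hAe : ∀ a ∈ A, a ^ p = 1) (hA : Nat.card A = p ^ 3)
    (hAt : ∀ a ∈ A, Commute a t) :
    ∃ a s : G, orderOf a = p ∧ Commute a t ∧ Commute a s ∧ s ∈ core 2 t ∧ orderOf s = 2 ∧ s ≠ t ∧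
      ∀ u ∈ core 2 t, ⁅u, s⁆ = 1 ∨ ⁅u, s⁆ = t := by
  haveI : Fact (Nat.Prime 2) := ⟨Nat.prime_two⟩
  have hp := (Fact.out : p.Prime)
  have hAp := isPGroup_of_exp hAe
  set Q := core 2 t
  have htQ : t ∈ Q := self_mem_core ht
  have ht2 : t ^ 2 = 1 := ht ▸ pow_orderOf_eq_one t
  have hQt : ∀ u ∈ Q, Commute u t := fun u hu => commute_of_mem_core ht hu
  obtain ⟨C, hCQ, htC', hCinv, hCe, hCc, hCdet⟩ := exists_small (q := 2) (core_isPGroup t)
    (zpowers_le.2 htQ) (fun z hz u hu => by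
      obtain ⟨k, rfl⟩ := mem_zpowers_iff.1 hz
      exact ((hQt u hu).zpow_right k).eq)
    (fun z hz => by rcases eq_one_or_eq_of_mem_zpowers ht hz with rfl | rfl <;> simp [ht2])
  have htC : t ∈ C := htC' (mem_zpowers t)
  have hAQ : A ≤ normalizer (Q : Set G) := fun a ha => mem_normalizer_core (hAt a ha)
  have hAC : A ≤ normalizer (C : Set G) := fun a ha =>
    hCinv a (hAQ ha) (mem_normalizer_zpowers_of_commute (hAt a ha))
  have hQC : Q ≤ normalizer (C : Set G) := fun u hu =>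
    hCinv u (le_normalizer hu) (mem_normalizer_zpowers_of_commute (hQt u hu))
  have hord : ∀ a ∈ A, a ≠ 1 → orderOf a = p := fun a ha ha1 => orderOf_eq_prime (hAe a ha) ha1
  have hexist : ∀ B ≤ A, Nat.card A ≤ Nat.card B * p → ∃ b ∈ B, b ≠ 1 := by
    intro B _ hB
    by_contra! h
    rw [show B = ⊥ from eq_bot_iff.2 fun b hb => mem_bot.2 (h b hb), card_bot, one_mul, hA] at hB
    have h1 : p ^ 3 ≤ p ^ 1 := by rw [pow_one]; exact hB
    exact absurd ((Nat.pow_le_pow_iff_right hp.one_lt).1 h1) (by norm_num)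
  set X := omegaCenter C
  by_cases hX : X ≤ zpowers t
  swap
  · -- fixed points of `Q` on `X` modulo `t`
    have hQX : Q ≤ normalizer (X : Set G) := hQC.trans (normalizer_le_normalizer_omegaCenter C)
    let X2 : Subgroup G :=
      { carrier := {z | z ∈ X ∧ ∀ u ∈ Q, ⁅u, z⁆ ∈ zpowers t}
        one_mem' := ⟨one_mem _, fun u _ => by rw [commutatorElement_one_right]; exact one_mem _⟩
        mul_mem' := fun {a b} ha hb => ⟨mul_mem ha.1 hb.1, fun u hu => by
          have hc : Commute a ⁅u, b⁆ := by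
            rcases eq_one_or_eq_of_mem_zpowers ht (hb.2 u hu) with e | e <;> rw [e]
            · exact Commute.one_right a
            · exact hQt a (hCQ ha.1.1)
          rw [show ⁅u, a * b⁆ = ⁅u, a⁆ * (a * ⁅u, b⁆ * a⁻¹) by simp only [commutatorElement_def]; group,
            hc.eq, mul_inv_cancel_right]
          exact mul_mem (ha.2 u hu) (hb.2 u hu)⟩
        inv_mem' := fun {a} ha => by
          rwa [inv_eq_of_mul_eq_one_right (by rw [← sq]; exact ha.1.2.2 : a * a = 1)] }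
    have hX2 : ¬ X2 ≤ zpowers t := by
      have htX : t ∈ X := ⟨htC, fun c hc => hQt c (hCQ hc), ht2⟩
      let N : Subgroup Q := (zpowers t).subgroupOf Q
      let M : Subgroup Q := X.subgroupOf Q
      haveI : N.Normal := normal_subgroupOf_of_le_normalizer fun u hu =>
        mem_normalizer_zpowers_of_commute (hQt u hu)
      haveI : M.Normal := normal_subgroupOf_of_le_normalizer hQX
      have hlt : N < M := by
        refine lt_of_le_of_ne (comap_mono (zpowers_le.2 htX)) fun h => hX fun z hz => ?_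
        exact (h.ge (show (⟨z, hCQ hz.1⟩ : Q) ∈ M from hz) : _)
      obtain ⟨x, hxM, hxN, hxc⟩ := CfsgLib.OddLocal.exists_central_mod (core_isPGroup t) N M hlt
      intro hle
      refine hxN (hle (show (x : G) ∈ X2 from ⟨hxM, fun u hu => ?_⟩))
      exact hxc ⟨u, hu⟩
    have hAX2 : A ≤ normalizer (X2 : Set G) := le_normalizer_of_conj_mem fun a ha z hz => by
      refine ⟨(mem_normalizer_iff.1 (normalizer_le_normalizer_omegaCenter C (hAC ha)) z).1 hz.1,
        fun u hu => ?_⟩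
      have hu' : a⁻¹ * u * a ∈ Q := by
        have := (mem_normalizer_iff.1 (inv_mem (hAQ ha)) u).1 hu
        rwa [inv_inv] at this
      rw [show ⁅u, a * z * a⁻¹⁆ = a * ⁅a⁻¹ * u * a, z⁆ * a⁻¹ by simp only [commutatorElement_def]; group]
      exact (mem_normalizer_iff.1 (mem_normalizer_zpowers_of_commute (hAt a ha)) _).1 (hz.2 _ hu')
    obtain ⟨B, hBA, hB, s, hs, hst, hBs⟩ := exists_cocyclic hAc hAe hAX2
      (coprime_two hp2 hAp ((core_isPGroup t).to_le fun z hz => hCQ hz.1.1)) hX2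
    obtain ⟨b, hb, hb1⟩ := hexist B hBA hB
    exact ⟨b, s, hord b (hBA hb) hb1, hAt b (hBA hb), hBs b hb, hCQ hs.1.1,
      orderOf_eq_prime hs.1.2.2 fun e => hst (e ▸ one_mem _), fun e => hst (e ▸ mem_zpowers t),
      fun u hu => eq_one_or_eq_of_mem_zpowers ht (hs.2 u hu)⟩
  -- any involution of `C` outside `⟨t⟩` will do
  by_contra hcon
  have hkey : ∀ a ∈ A, a ≠ 1 → ∀ s ∈ C, s ^ 2 = 1 → Commute a s → s ∈ zpowers t := by
    intro a ha ha1 s hs hs2 has
    by_contra hst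
    refine hcon ⟨a, s, hord a ha ha1, hAt a ha, has, hCQ hs,
      orderOf_eq_prime hs2 fun e => hst (e ▸ one_mem _), fun e => hst (e ▸ mem_zpowers t), fun u hu => ?_⟩
    obtain ⟨hzC, hzc⟩ := hCc s hs u hu
    have hz2 : ⁅s, u⁆ ^ 2 = 1 := commutator_sq_eq_one hs2 (hzc s hs)
    have h1 := hX (show ⁅s, u⁆ ∈ X from ⟨hzC, fun c hc => (hzc c hc).symm, hz2⟩)
    rw [← inv_mem_iff, commutatorElement_inv] at h1
    exact eq_one_or_eq_of_mem_zpowers ht h1
  have hmoved : ∀ a ∈ A, a ≠ 1 → ¬ C ≤ centralizer ({a} : Set G) := by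
    intro a ha ha1 hle
    have hfix := hCdet a (hAQ ha) (by
      rw [hord a ha ha1]; exact (Nat.coprime_primes hp Nat.prime_two).2 hp2)
      fun d hd => by rw [← mem_centralizer_singleton_iff.1 (hle hd), mul_inv_cancel_right]
    have haQ : a ∈ Q := mem_core_of_centralizing h2 ht (hAt a ha)
      fun r hr => mul_inv_eq_iff_eq_mul.1 (hfix r hr)
    obtain ⟨m, hm⟩ := core_isPGroup (q := 2) t ⟨a, haQ⟩
    have hm' : a ^ 2 ^ m = 1 := by simpa using congrArg Subtype.val hm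
    have h1 := orderOf_dvd_of_pow_eq_one hm'
    rw [hord a ha ha1] at h1
    exact hp2 ((Nat.prime_dvd_prime_iff_eq hp Nat.prime_two).1 (hp.dvd_of_dvd_pow h1))
  have hcopC : (Nat.card A).Coprime (Nat.card C) := coprime_two hp2 hAp ((core_isPGroup t).to_le hCQ)
  have hnc : ∀ B ≤ A, Nat.card A ≤ Nat.card B * p → ¬ C ≤ centralizer (B : Set G) := by
    intro B hBA hB hle
    obtain ⟨b, hb, hb1⟩ := hexist B hBA hB
    exact hmoved b (hBA hb) hb1 (hle.trans (centralizer_le (Set.singleton_subset_iff.2 hb)))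
  obtain ⟨B1, hB1A, hB1, c1, hc1, hc1A, hB1c⟩ := exists_cocyclic hAc hAe hAC hcopC
    (hnc A le_rfl (Nat.le_mul_of_pos_right _ hp.pos))
  obtain ⟨a', ha', hne'⟩ : ∃ a' ∈ A, ¬ Commute a' c1 := by
    by_contra! h
    exact hc1A (mem_centralizer_iff.2 fun a ha => h a ha)
  obtain ⟨B2, hB2A, hB2, c2, hc2, hc2B, hB2c⟩ := exists_cocyclic hAc hAe hAC hcopC (hnc B1 hB1A hB1)
  obtain ⟨a, ha1m, ha2m, ha0⟩ : ∃ a, a ∈ B1 ∧ a ∈ B2 ∧ a ≠ 1 := by
    by_contra! h
    have hd : Disjoint B1 B2 := disjoint_iff_inf_le.2 fun x hx => mem_bot.2 (h x hx.1 hx.2)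
    have h1 : Nat.card B1 * Nat.card B2 ≤ p ^ 3 := by
      rw [← Nat.card_prod, ← hA]
      refine Nat.card_le_card_of_injective
        (fun g : B1 × B2 => (⟨g.1 * g.2, mul_mem (hB1A g.1.2) (hB2A g.2.2)⟩ : A)) ?_
      intro g g' e
      exact mul_injective_of_disjoint hd (congrArg Subtype.val e)
    have h3 : p ^ 3 * p ^ 3 ≤ p ^ 3 * (p * p) := by
      calc p ^ 3 * p ^ 3 ≤ (Nat.card B1 * p) * (Nat.card B2 * p) := Nat.mul_le_mul (hA ▸ hB1) (hA ▸ hB2)
        _ = (Nat.card B1 * Nat.card B2) * (p * p) := by ring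
        _ ≤ p ^ 3 * (p * p) := Nat.mul_le_mul_right _ h1
    have h4 : p ^ 3 ≤ p ^ 2 := by rw [sq]; exact Nat.le_of_mul_le_mul_left h3 (pow_pos hp.pos 3)
    exact absurd ((Nat.pow_le_pow_iff_right hp.one_lt).1 h4) (by norm_num)
  have haA := hB1A ha1m
  -- the elements of `C` fixed by `a`
  have hsq : ∀ c ∈ C, Commute a c → c ^ 2 ∈ zpowers t := fun c hc hac => by
    refine hkey a haA ha0 _ (pow_mem hc 2) ?_ (hac.pow_right 2)
    rw [← pow_mul]
    rcases hCe c hc with h | ⟨-, h⟩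
    · rw [pow_mul, h, one_pow]
    · exact h
  have hcomm : ∀ c ∈ C, ∀ d ∈ C, Commute a c → Commute a d → ⁅c, d⁆ = 1 ∨ ⁅c, d⁆ = t := by
    intro c hc d hd hac had
    obtain ⟨hzC, hzc⟩ := hCc c hc d (hCQ hd)
    refine eq_one_or_eq_of_mem_zpowers ht (hkey a haA ha0 _ hzC ?_
      (((hac.mul_right had).mul_right hac.inv_right).mul_right had.inv_right))
    have h1 : Commute (c ^ 2) d := by
      rcases eq_one_or_eq_of_mem_zpowers ht (hsq c hc hac) with e | e <;> rw [e]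
      · exact Commute.one_left d
      · exact (hQt d (hCQ hd)).symm
    calc ⁅c, d⁆ ^ 2 = c * ⁅c, d⁆ * c⁻¹ * ⁅c, d⁆ := by rw [← hzc c hc, mul_inv_cancel_right, sq]
      _ = (c ^ 2) * d * (c ^ 2)⁻¹ * d⁻¹ := by simp only [commutatorElement_def, sq]; group
      _ = 1 := by rw [h1.eq, mul_inv_cancel_right, mul_inv_cancel]
  have hdep : ∀ c ∈ C, ∀ d ∈ C, Commute a c → Commute a d → c ∉ zpowers t → d ∉ zpowers t →
      Commute c d → c * d⁻¹ ∈ zpowers t := by
    intro c hc d hd hac had hct hdt hcd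
    refine hkey a haA ha0 _ (mul_mem hc (inv_mem hd)) ?_ (hac.mul_right had.inv_right)
    have hc2' : c ^ 2 = t := (eq_one_or_eq_of_mem_zpowers ht (hsq c hc hac)).resolve_left
      fun e => hct (hkey a haA ha0 c hc e hac)
    have hd2' : d ^ 2 = t := (eq_one_or_eq_of_mem_zpowers ht (hsq d hd had)).resolve_left
      fun e => hdt (hkey a haA ha0 d hd e had)
    rw [hcd.inv_right.mul_pow, inv_pow, hc2', hd2', mul_inv_cancel]
  have hne_comm : ∀ c ∈ C, ∀ d ∈ C, Commute a c → Commute a d → c ∉ zpowers t → d ∉ zpowers t →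
      c * d⁻¹ ∉ zpowers t → ⁅c, d⁆ = t := fun c hc d hd hac had hct hdt hcd =>
    (hcomm c hc d hd hac had).resolve_left fun e =>
      hcd (hdep c hc d hd hac had hct hdt (commutatorElement_eq_one_iff_mul_comm.1 e))
  -- four elements pairwise distinct modulo `t`
  have four : ∀ x1 x2 x3 x4 : G, x1 ∈ C → x2 ∈ C → x3 ∈ C → x4 ∈ C → Commute a x1 → Commute a x2 →
      Commute a x3 → Commute a x4 → x1 ∉ zpowers t → x2 ∉ zpowers t → x3 ∉ zpowers t → x4 ∉ zpowers t →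
      x1 * x2⁻¹ ∉ zpowers t → x1 * x3⁻¹ ∉ zpowers t → x2 * x3⁻¹ ∉ zpowers t →
      x1 * x4⁻¹ ∉ zpowers t → x2 * x4⁻¹ ∉ zpowers t → x3 * x4⁻¹ ∈ zpowers t := by
    intro x1 x2 x3 x4 m1 m2 m3 m4 a1 a2 a3 a4 n1 n2 n3 n4 n12 n13 n23 n14 n24
    have hy : ∀ x ∈ C, Commute a x → x ∉ zpowers t → x1 * x⁻¹ ∉ zpowers t → x2 * x⁻¹ ∉ zpowers t →
        x1 * x2 * x⁻¹ ∈ zpowers t := by
      intro x m ax n q1 q2
      refine hdep _ (mul_mem m1 m2) x m (a1.mul_right a2) ax ?_ n ?_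
      · intro e
        apply n12
        have h2' := hsq x2 m2 a2
        have := mul_mem e (inv_mem h2')
        rwa [sq, show x1 * x2 * (x2 * x2)⁻¹ = x1 * x2⁻¹ by group] at this
      · have e1 := hne_comm x1 m1 x m a1 ax n1 n q1
        have e2 := hne_comm x2 m2 x m a2 ax n2 n q2
        rw [← commutatorElement_eq_one_iff_commute,
          show ⁅x1 * x2, x⁆ = x1 * ⁅x2, x⁆ * x1⁻¹ * ⁅x1, x⁆ by simp only [commutatorElement_def]; group,
          e1, e2, (hQt x1 (hCQ m1)).eq, mul_inv_cancel_right, ← sq, ht2]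
    have := mul_mem (inv_mem (hy x3 m3 a3 n3 n13 n23)) (hy x4 m4 a4 n4 n14 n24)
    rwa [show (x1 * x2 * x3⁻¹)⁻¹ * (x1 * x2 * x4⁻¹) = x3 * x4⁻¹ by group] at this
  have hstab : ∀ g ∈ A, ∀ x : G, g * x * g⁻¹ * x⁻¹ ∈ zpowers t → Commute g x := by
    intro g hg x hx
    refine mul_inv_eq_iff_eq_mul.1 (CfsgLib.OddLocal.conj_eq_of_stabilizes (zpowers t) g x hx ?_ ?_)
    · rcases eq_one_or_eq_of_mem_zpowers ht hx with e | e <;> rw [e]
      · group
      · rw [(hAt g hg).eq, mul_inv_cancel_right]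
    · rw [Nat.card_zpowers, ht]
      exact ((Nat.coprime_primes hp Nat.prime_two).2 hp2).coprime_dvd_left
        (orderOf_dvd_of_pow_eq_one (hAe g hg))
  have hfixt : ∀ B : Subgroup G, B ≤ A → zpowers t ≤ centralizer (B : Set G) := fun B hB =>
    zpowers_le.2 (mem_centralizer_iff.2 fun b hb => hAt b (hB hb))
  have hmemA : ∀ g ∈ A, g * c1 * g⁻¹ ∈ C ∧ g * c1 * g⁻¹ ∈ centralizer (B1 : Set G) := fun g hg =>
    ⟨(mem_normalizer_iff.1 (hAC hg) c1).1 hc1, mem_centralizer_iff.2 fun b hb => by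
      have hc := commute_of_mem hAc (hB1A hb) hg
      exact ((hc.mul_right (hB1c b hb)).mul_right hc.inv_right).eq⟩
  have hc1t : c1 ∉ zpowers t := fun h => hc1A (hfixt A le_rfl h)
  have hconjt : ∀ g ∈ A, g * c1 * g⁻¹ ∉ zpowers t := fun g hg h =>
    hc1t ((mem_normalizer_iff.1 (mem_normalizer_zpowers_of_commute (hAt g hg)) c1).2 h)
  have hc2t : c2 ∉ zpowers t := fun h => hc2B (hfixt B1 hB1A h)
  have hac1 : ∀ g ∈ A, Commute a (g * c1 * g⁻¹) := fun g hg =>
    mem_centralizer_iff.1 (hmemA g hg).2 a ha1m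
  have hsep : ∀ g ∈ A, g * c1 * g⁻¹ * c2⁻¹ ∉ zpowers t := by
    intro g hg h
    have h1 := mul_mem (inv_mem (hfixt B1 hB1A h)) (hmemA g hg).2
    rw [show (g * c1 * g⁻¹ * c2⁻¹)⁻¹ * (g * c1 * g⁻¹) = c2 by group] at h1
    exact hc2B h1
  have ha'1 : ¬ Commute (a' ^ 2) c1 := fun h => by
    obtain ⟨k, hk⟩ := hp.odd_of_ne_two hp2
    refine hne' ?_
    have := h.pow_left (k + 1)
    rwa [← pow_mul, show 2 * (k + 1) = p + 1 by omega, pow_succ, hAe a' ha', one_mul] at this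
  refine hsep (a' ^ 2) (pow_mem ha' 2)
    (four c1 (a' * c1 * a'⁻¹) _ c2 hc1 (hmemA a' ha').1 (hmemA _ (pow_mem ha' 2)).1 hc2
      (hB1c a ha1m) (hac1 a' ha') (hac1 _ (pow_mem ha' 2)) (hB2c a ha2m) hc1t (hconjt a' ha')
      (hconjt _ (pow_mem ha' 2)) hc2t ?_ ?_ ?_ ?_ (hsep a' ha'))
  · intro h
    refine hne' (hstab a' ha' c1 ?_)
    have := inv_mem h
    rwa [mul_inv_rev, inv_inv] at this
  · intro h
    refine ha'1 (hstab _ (pow_mem ha' 2) c1 ?_)
    have := inv_mem h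
    rwa [mul_inv_rev, inv_inv] at this
  · intro h
    refine hne' (hstab a' ha' c1 ?_)
    have h1 := inv_mem ((mem_normalizer_iff.1 (mem_normalizer_zpowers_of_commute
      ((hAt a' ha').inv_left)) _).1 h)
    rwa [show (a'⁻¹ * (a' * c1 * a'⁻¹ * (a' ^ 2 * c1 * (a' ^ 2)⁻¹)⁻¹) * a'⁻¹⁻¹)⁻¹ =
      a' * c1 * a'⁻¹ * c1⁻¹ by rw [sq]; group] at h1
  · simpa using hsep 1 (one_mem A)

end CfsgLib.KlingerMason
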